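import Cfsg.Agent.Spor.ThD.D0

set_option autoImplicit false
set_option maxRecDepth 100000000
set_option Elab.async false

namespace Cfsg.Agent.Spor.ThD

theorem ok0 : Net.okb 10 n0 = true := by decide +kernel

theorem ok1 : Net.okb 10 n1 = true := by decide +kernel

theorem ok2 : Net.okb 10 n2 = true := by decide +kernel

theorem ok3 : Net.okb 10 n3 = true := by decide +kernel

theorem ok4 : Net.okb 10 n4 = true := by decide +kernel

theorem ok5 : Net.okb 10 n5 = true := by decide +kernel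

theorem ok6 : Net.okb 10 n6 = true := by decide +kernel

theorem rel0 : T.rel 10 [1, 1] 0 10 = true := by decide +kernel

theorem rel1 : T.rel 10 [2, 2] 0 10 = true := by decide +kernel

theorem rel2 : T.rel 10 [3, 3] 0 10 = true := by decide +kernel

theorem rel3 : T.rel 10 [4, 4] 0 10 = true := by decide +kernel

theorem rel4 : T.rel 10 [5, 5] 0 10 = true := by decide +kernel

theorem rel5 : T.rel 10 [2, 1, 2, 1, 2, 1] 0 10 = true := by decide +kernel

theorem rel6 : T.rel 10 [5, 1, 5, 1] 0 10 = true := by decide +kernel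

theorem rel7 : T.rel 10 [3, 2, 3, 2, 3, 2] 0 10 = true := by decide +kernel

theorem rel8 : T.rel 10 [4, 2, 4, 2] 0 10 = true := by decide +kernel

theorem rel9 : T.rel 10 [5, 2, 5, 2] 0 10 = true := by decide +kernel

theorem rel10 : T.rel 10 [10, 11, 10, 11, 10, 11, 10, 11, 1] 0 10 = true := by decide +kernel

theorem rel11 : T.rel 10 [5, 3, 5, 3] 0 10 = true := by decide +kernel

theorem rel12 : T.rel 10 [5, 4, 5, 4, 5, 4] 0 10 = true := by decide +kernel

theorem rel13 : T.rel 10 [5, 4, 3, 2, 5, 4, 3, 2, 5, 4, 3, 2, 5, 4, 3, 2, 5, 4, 3, 2, 5, 4, 3, 2, 5, 4, 3, 2, 5, 4, 3, 2] 0 10 = true := by decide +kernel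

theorem rel14 : T.rel 10 [6, 6, 6, 6, 6, 6, 6] 0 10 = true := by decide +kernel

theorem rel15 : T.rel 10 [1, 6, 8, 13] 0 10 = true := by decide +kernel

theorem rel16 : T.rel 10 [2, 6, 9, 13] 0 10 = true := by decide +kernel

theorem rel17 : T.rel 10 [3, 6, 10, 13] 0 10 = true := by decide +kernel

theorem rel18 : T.rel 10 [4, 6, 4, 6] 0 10 = true := by decide +kernel

theorem rel19 : T.rel 10 [6, 6, 6, 12, 13, 13, 5, 13, 12] 0 10 = true := by decide +kernel

theorem rel20 : T.rel 10 [7, 7, 7] 0 10 = true := by decide +kernel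

theorem rel21 : T.rel 10 [1, 7, 8, 14] 0 10 = true := by decide +kernel

theorem rel22 : T.rel 10 [2, 7, 9, 14] 0 10 = true := by decide +kernel

theorem rel23 : T.rel 10 [3, 7, 10, 14] 0 10 = true := by decide +kernel

theorem rel24 : T.rel 10 [4, 7, 11, 14] 0 10 = true := by decide +kernel

theorem rel25 : T.rel 10 [5, 7, 12, 14] 0 10 = true := by decide +kernel

theorem rel26 : T.rel 10 [13, 13, 7, 6, 14] 0 10 = true := by decide +kernel

theorem hcov : T.treeCov (ones 819) L 1 = true := by decide +kernel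

theorem hg : lall (fun z => band (memL L z) (band (sub (ones 819) (T.let z).cl) (T.closed (ones 819) z))) gs = true := by decide +kernel

theorem hivk : ivOk (2 * 0) EX IV = true := by decide +kernel

theorem hrt : RT.ok (2 * 0) EX RL = true := by decide +kernel

theorem hdefs : defs F 360 = true := by decide +kernel

noncomputable def st0_l : List Nat := [nat_lit 0x3ff, nat_lit 0x3ff, nat_lit 0x3ff, nat_lit 0x3ff, nat_lit 0x3ff, nat_lit 0x3ff, nat_lit 0x1, nat_lit 0x16a000b7003, nat_lit 0x16b000b7003, nat_lit 0x16c80000403, nat_lit 0x16d80000403, nat_lit 0x801, nat_lit 0x200170000b9803, nat_lit 0x20017180000c03, nat_lit 0x20017280000c03, nat_lit 0x800000002d00016e000b9805, nat_lit 0x1001, nat_lit 0x400170000bc003, nat_lit 0x40017180001403, nat_lit 0x40017280001403, nat_lit 0x1000000002d20016e000bc005, nat_lit 0x1801, nat_lit 0x600174000be803, nat_lit 0x60017580001c03, nat_lit 0x60017680001c03, nat_lit 0x2001, nat_lit 0x80017c000c0803, nat_lit 0x80017a000c0803,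 nat_lit 0x80017b80002403, nat_lit 0x2801, nat_lit 0xa0017e000c2803, nat_lit 0xa0017f80002c03, nat_lit 0xa0018080002c03, nat_lit 0x280000c002ee0017d000c2805, nat_lit 0x3001, nat_lit 0xc0017f000c5003, nat_lit 0xc0018080003403, nat_lit 0x3801, nat_lit 0xe0018380003c03, nat_lit 0xe0018480003c03, nat_lit 0x4001, nat_lit 0x1000182000c8003, nat_lit 0x100018480004403, nat_lit 0x4000010002f200181000c8005, nat_lit 0x4801, nat_lit 0x1200005000c5003, nat_lit 0x1200187000ca003, nat_lit 0x120018880004c03, nat_lit 0x5001, nat_lit 0x140018b80005403, nat_lit 0x140018c80005403, nat_lit 0x5801, nat_lit 0x160018c80005c03, nat_lit 0x5800018002fc0018a000cd805, nat_lit 0x6001, nat_lit 0x180018e80006403, nat_lit 0x180018f80006403, nat_lit 0x600001c003040018d000cf005, nat_lit 0x6801, nat_lit 0x1a00007000c8003, nat_lit 0x1a0018f80006c03, nat_lit 0x1c0019100007403, nat_lit 0x1c001a30000cc03, nat_lit 0x1c0019300007c03, nat_lit 0x38003240000e8000e404, nat_lit 0x740001c0000f8000f404, nat_lit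 0x1e0019180007c03, nat_lit 0x8001, nat_lit 0x200019680008403, nat_lit 0x200019780008403, nat_lit 0x8801, nat_lit 0x88000240030c00194000d7005, nat_lit 0x9001, nat_lit 0x240019980009403, nat_lit 0x240019a80009403, nat_lit 0x9801, nat_lit 0x260000a000cd803, nat_lit 0x260019a80009c03, nat_lit 0x28001b400012c03, nat_lit 0x280019d0000ac03, nat_lit 0x50003380001480014404, nat_lit 0xa4000280001580015404, nat_lit 0x2a001b400013403, nat_lit 0xb001, nat_lit 0x2c0019f8000b403, nat_lit 0x2c001a08000b403, nat_lit 0xb801, nat_lit 0x2e0000c000d1003, nat_lit 0x2e001a1000df003, nat_lit 0x2e001a08000bc03, nat_lit 0xc001, nat_lit 0x30001a48000c403, nat_lit 0x32001bf00016c03, nat_lit 0x32001c200018403, nat_lit 0x64003480001980019404, nat_lit 0xcc000320001a8001a404, nat_lit 0x34001bf00017403, nat_lit 0xd801, nat_lit 0x38001a58000e403, nat_lit 0x38001a680019403, nat_lit 0x1d000d4402, nat_lit 0x3a001a58000ec03, nat_lit 0x3a001a680019c03, nat_lit 0x3c001aa0000f403, nat_lit 0xf801, nat_lit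 0x10001, nat_lit 0x40001ac000e8803, nat_lit 0x40001ad80010403, nat_lit 0x10801, nat_lit 0x4200010000d7003, nat_lit 0x44001b180011403, nat_lit 0x44001b280011403, nat_lit 0x11801, nat_lit 0x4600012000d9803, nat_lit 0x46001b280011c03, nat_lit 0x12001, nat_lit 0x780002400013403, nat_lit 0x48001b580012403, nat_lit 0x4a001d90001d403, nat_lit 0x4a001db0001ec03, nat_lit 0x940036a000258001fc04, nat_lit 0x1000004a0002680020c04, nat_lit 0x13801, nat_lit 0x29000dc402, nat_lit 0x54001ba80020c03, nat_lit 0x15801, nat_lit 0x5600016000df003, nat_lit 0x56001bd80015c03, nat_lit 0x16001, nat_lit 0x8c0002c00017403, nat_lit 0x58001c180016403, nat_lit 0x5a001e600021c03, nat_lit 0x5a001c000016c03, nat_lit 0x5a001e800023c03, nat_lit 0x5c001e600022403, nat_lit 0x5c001c080017403, nat_lit 0x17801, nat_lit 0x960002f00018403, nat_lit 0x60001f000025c03, nat_lit 0x13400060001c380018404, nat_lit 0x18801, nat_lit 0x33000e3402, nat_lit 0x66001c480024c03, nat_lit 0x66001c580026403, nat_lit 0x1a801,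 nat_lit 0x1b001, nat_lit 0x6c0001f000e8803, nat_lit 0x1b801, nat_lit 0x6e0001f000ea003, nat_lit 0x1c001, nat_lit 0x7000022000ec003, nat_lit 0x70001d78001c403, nat_lit 0x1c801, nat_lit 0x72001da8001cc03, nat_lit 0x74001fe00028c03, nat_lit 0x74002000002a403, nat_lit 0x1d801, nat_lit 0xae0003b0001e403, nat_lit 0x78002040002bc03, nat_lit 0xf0003ba0003c8002cc04, nat_lit 0x1700007a001dd8001ec04, nat_lit 0x1f001, nat_lit 0x40000f0402, nat_lit 0x82001dc0002d403, nat_lit 0x21001, nat_lit 0x84001e780021403, nat_lit 0x860020c0002fc03, nat_lit 0x22801, nat_lit 0xc60004500023403, nat_lit 0xc80004500023c03, nat_lit 0x8a001ea80022c03, nat_lit 0x8c0020f00031c03, nat_lit 0x118003d40004680032c04, nat_lit 0x8e0020f00032403, nat_lit 0x24001, nat_lit 0x90001ec8010b003, nat_lit 0x92001ec80024c03, nat_lit 0x92001ed80033403, nat_lit 0x25001, nat_lit 0xce0004a00025c03, nat_lit 0x960021a00033c03, nat_lit 0x4c000f9802, nat_lit 0x98001f100034403, nat_lit 0x9a001f100034c03, nat_lit 0x9a001f280034c03,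 nat_lit 0x27001, nat_lit 0x27801, nat_lit 0x28001, nat_lit 0xd60005000029403, nat_lit 0xa0001ff80028403, nat_lit 0x29801, nat_lit 0xa60020180029c03, nat_lit 0xa80022600037403, nat_lit 0x1bc000a8002018002a404, nat_lit 0x2a801, nat_lit 0x2b001, nat_lit 0xe0000560002bc03, nat_lit 0xae0022b00038403, nat_lit 0x2c001, nat_lit 0xe8000580002d403, nat_lit 0xb20020680039403, nat_lit 0xb20020500039403, nat_lit 0xb40020680039c03, nat_lit 0xb40022e0003a403, nat_lit 0xea0005b00104003, nat_lit 0x2e801, nat_lit 0xf00005d0002f403, nat_lit 0xf20005d0002fc03, nat_lit 0xba0020d8002ec03, nat_lit 0xbc002350003c403, nat_lit 0x1780041a0005e8003dc04, nat_lit 0xbe002350003cc03, nat_lit 0x30001, nat_lit 0x30801, nat_lit 0xc20021280030c03, nat_lit 0x31001, nat_lit 0xfe0006200032403, nat_lit 0xc40021280031403, nat_lit 0x18c004240006380040c04, nat_lit 0xc80023d0003f403, nat_lit 0xca0021380040c03, nat_lit 0xcc0021580041c03, nat_lit 0xd00021c80042403, nat_lit 0xd00021b00042403, nat_lit 0x35001,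 nat_lit 0x10c0006a00035c03, nat_lit 0xd40022580035403, nat_lit 0x1ac0044a0006b80044404, nat_lit 0x36001, nat_lit 0x36801, nat_lit 0x224000dc0022780037404, nat_lit 0xde0022880044c03, nat_lit 0x38801, nat_lit 0x1180007100039c03, nat_lit 0xe60022d80045c03, nat_lit 0xe60022c00045c03, nat_lit 0xe60025000046403, nat_lit 0x3b001, nat_lit 0xec002388003b403, nat_lit 0x3b801, nat_lit 0x11e000770003cc03, nat_lit 0x1dc000ba00042000f3400700003d00020f0011f808, nat_lit 0x1de004b30023f80107c007a2003810002c80022c08, nat_lit 0xf00025a80031c03, nat_lit 0xf00025500047403, nat_lit 0xf00025700048403, nat_lit 0x1e0004700007880049404, nat_lit 0xf20025a80032403, nat_lit 0x3d001, nat_lit 0x1280007a0011d403, nat_lit 0xf60023980049403, nat_lit 0xf60023600049403, nat_lit 0x3e001, nat_lit 0x3e801, nat_lit 0x12a0007d0003f403, nat_lit 0xfa0023e8003ec03, nat_lit 0xfe0025900047c03, nat_lit 0x264000fe000808004d404, nat_lit 0x1000025900048403, nat_lit 0x26c001000024180040404, nat_lit 0x1380008200041c03,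 nat_lit 0x106002438004bc03, nat_lit 0x13a0008500043403, nat_lit 0x21800494000868004fc04, nat_lit 0x43801, nat_lit 0x1400008700125c03, nat_lit 0x45001, nat_lit 0x1160027200050c03, nat_lit 0x46801, nat_lit 0x11a0025680046c03, nat_lit 0x11c0027400051403, nat_lit 0x238004ac0008e80052404, nat_lit 0x48801, nat_lit 0x1220023680130003, nat_lit 0x14c000910012f403, nat_lit 0x1240025c80052403, nat_lit 0x49801, nat_lit 0x1280027900053403, nat_lit 0x128002608011d403, nat_lit 0x29c0012a0009680054404, nat_lit 0x2a40012c002678004b404, nat_lit 0x9a00135802, nat_lit 0x1360026a80052c03, nat_lit 0x9a6005030009b00135804, nat_lit 0x26900141c0026c001000007f8004c406, nat_lit 0x4f001, nat_lit 0x13c0024980138003, nat_lit 0x1400028600055c03, nat_lit 0x2b0001440027580051404, nat_lit 0x51801, nat_lit 0x14c002788012f403, nat_lit 0xa800140002, nat_lit 0x9fe00517000a900140004, nat_lit 0x1540026e80142803, nat_lit 0x1560028d00057403, nat_lit 0x1560028580137c03, nat_lit 0x15a002898013bc03, nat_lit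 0x1c0000800002000b7800006002fa0018a000cc008, nat_lit 0x660005220000700002000008002de00178000c0808, nat_lit 0x3c0032100183000c180060c000110000e800e4808, nat_lit 0xc00185000ca003, nat_lit 0x54003370018b000c580062c0001700014800f1008, nat_lit 0x100018d000d1003, nat_lit 0x33200291000c7003, nat_lit 0x68003450018e000c70006380001b00019800fa008, nat_lit 0x1600292800c8003, nat_lit 0x14b00064400346001bf000e0005, nat_lit 0x3c003240000f80149c04, nat_lit 0x90000280032a001ab000e8005, nat_lit 0x1600198000d9803, nat_lit 0xf8000400052800198000d8005, nat_lit 0x980036700199000cc800664000270002580104808, nat_lit 0x2200294000cd803, nat_lit 0x5400338000158014ac04, nat_lit 0xec000480029d000ce800a6600346001c2000f8008, nat_lit 0x7c0005440003b00012000a740033a001b4000ed808, nat_lit 0x2400291000cf003, nat_lit 0x33e002a4000d8803, nat_lit 0xb80037d0019f000cf80067c0002f0002d8010b008, nat_lit 0x138003f10029c00152800684005480029e000fc808, nat_lit 0x1200004c00522001a2000e1005, nat_lit 0xa5800326001a3000e10007c0005440003b00012008,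 nat_lit 0x68003480001a8014c404, nat_lit 0x34a001a7800d5403, nat_lit 0xd3001, nat_lit 0x3e9001a60000dc03, nat_lit 0x536001a7000d4403, nat_lit 0x350002ac000e3403, nat_lit 0x350002ab8014dc03, nat_lit 0x6a000039001cc000d4c04, nat_lit 0x2930000780003a00039002b1800d4806, nat_lit 0x6a400564001c98000700003e00527001c98000e408, nat_lit 0xa4c00537002b2800d4c04, nat_lit 0x22001ab000ea003, nat_lit 0x26001b0000ec003, nat_lit 0xc0000340052e001b3000ed805, nat_lit 0x980036a000268014fc04, nat_lit 0xdb001, nat_lit 0x413001b600013c03, nat_lit 0xdb801, nat_lit 0x542001b7000dc403, nat_lit 0x370002b9000f0403, nat_lit 0x370002bb00150c03, nat_lit 0x6e000051001e3000dcc04, nat_lit 0x2950000a80005200051002bf800dc806, nat_lit 0x6e400580001e28000a0000560052b001e280014408, nat_lit 0xa5400543002c0800dcc04, nat_lit 0x53e001ba0014ac03, nat_lit 0x2e001bb000f2803, nat_lit 0x110003cb001bc000de0006f000057000438011e008, nat_lit 0x1c80008c0054a001be000f4005, nat_lit 0x30001bf000f4003, nat_lit 0xb8003820002e80153404,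 nat_lit 0x580029a000e1003, nat_lit 0xe2801, nat_lit 0x3e7001c5000e3403, nat_lit 0x38c002ca000f9803, nat_lit 0x71800065001f5000e3c04, nat_lit 0x2980000d00006600065002cd800e3806, nat_lit 0xa6000555002ce800e3c04, nat_lit 0x54c001c80014c403, nat_lit 0x39e002b3800e5003, nat_lit 0x3eb002af000e6003, nat_lit 0x568002b0000e6003, nat_lit 0x10c0007d80039c001cd00169005, nat_lit 0x40001d0000fc803, nat_lit 0x15b000a7400540001d5000fe005, nat_lit 0x148003fb001d6000eb000758000710005180126008, nat_lit 0x6e0029c000ec003, nat_lit 0x1600005c00548001d800100005, nat_lit 0x162000a6800553001d9000ff005, nat_lit 0x72002b6000ed803, nat_lit 0xee001, nat_lit 0x570001dc00103c03, nat_lit 0xef001, nat_lit 0x455001de0001f403, nat_lit 0xef801, nat_lit 0x411001df000f0403, nat_lit 0x7800007f0020a000f0c04, nat_lit 0x29f000130000960007f002e2800f0806, nat_lit 0x784005c6002098001280009a0053f002098001fc08, nat_lit 0xa7c00571002e3800f0c04, nat_lit 0x110003ce0004480162c04, nat_lit 0xf4801, nat_lit 0x590001e90010a403,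 nat_lit 0x9aa004ba0025b80108400b9c003de001e900109c08, nat_lit 0x7b8003de001e900109c00ba4004d50025d0011b408, nat_lit 0xf5801, nat_lit 0xf6801, nat_lit 0x97e00423001ed000f6400bb00042b0024000134408, nat_lit 0x58a001ee00153403, nat_lit 0x76002b7000f8003, nat_lit 0x308001140058e001f00010d005, nat_lit 0x43b002cc000fa803, nat_lit 0x148003fe000528016bc04, nat_lit 0x499002020002ac03, nat_lit 0x406002de80170003, nat_lit 0x5e002a800102003, nat_lit 0x40e002dc0015c403, nat_lit 0x453002f480104003, nat_lit 0x11980082c005c9002e10011a005, nat_lit 0xa0002da00106003, nat_lit 0x107001, nat_lit 0xa6002d900107803, nat_lit 0x250000bc005920020f0011e805, nat_lit 0x432002d480178803, nat_lit 0xac002f50010d003, nat_lit 0x123800878005fa0024580136c05, nat_lit 0x5e40022400125c03, nat_lit 0x8a002c600113003, nat_lit 0x2b0000ec005b60022600126805, nat_lit 0x94002a200115803, nat_lit 0x94002ef00115803, nat_lit 0x4a80023200117803, nat_lit 0x474002ea00173403, nat_lit 0x4f90023b0003e403, nat_lit 0x120001,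 nat_lit 0x484002e900135803, nat_lit 0x4cd0024300184403, nat_lit 0xa0800612002440017400085e005dc0030600131c08, nat_lit 0x4e60025200128803, nat_lit 0xee002550013a003, nat_lit 0x12c801, nat_lit 0x5150026200130803, nat_lit 0x132400bea000c10030600130805, nat_lit 0x134001, nat_lit 0x511002760013bc03, nat_lit 0x5210027b0013d003, nat_lit 0x149001, nat_lit 0xcac00c5000305002920014a405, nat_lit 0x153801, nat_lit 0x4c002a90000d403, nat_lit 0x554003170015c403, nat_lit 0x88000598001cb00157000ab400631002f600118c08, nat_lit 0xaf000574002f600118c00c6400440002cc000e5808, nat_lit 0x5a30031a00160803, nat_lit 0x5690031b80161003, nat_lit 0x87c00597002af00158400c7200586002dd80118408, nat_lit 0xb2c0043f0031d80118000b7400587002be0015ec08, nat_lit 0x59a0031e80171403, nat_lit 0x5cb0031f00167803, nat_lit 0x179c00b7e00641002d000177005, nat_lit 0x8c800416001e40018d800b4e005a4001f78010f408, nat_lit 0xbe8004770025800188c00c2000423001ed00175808, nat_lit 0x9a2005da0023780107000c8c005f40023b8012c008,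 nat_lit 0x17c801, nat_lit 0x6000032180183003, nat_lit 0x181801, nat_lit 0x8d4004ae0030e0003100011400058001c0000f4008, nat_lit 0x800002000009000c48006500062a001ab000e8808, nat_lit 0x18b000b5400652001fa00153805, nat_lit 0x8840062c000360014e000a9400342002a400011408, nat_lit 0xc580006c0029c00152800684005480029e000fc808, nat_lit 0x48c0032200129c03, nat_lit 0x192800ca20058e002a38016d805, nat_lit 0x4fd0032600138803, nat_lit 0x65d002c680194003, nat_lit 0xca400040000100000480062400328001ab000e8808, nat_lit 0x4420032a00027003, nat_lit 0x195000cb2005aa00331800fd005, nat_lit 0x700032b00111003, nat_lit 0x147000a1c0065e0030f00189805, nat_lit 0x46b0033000035403, nat_lit 0x9e0033200111003, nat_lit 0x57801, nat_lit 0x15e003318019c003, nat_lit 0x15e003290019c003, nat_lit 0x15e001d380057c03, nat_lit 0x58001, nat_lit 0x160000af000fd003, nat_lit 0x1600033b80058403, nat_lit 0x5aa003380019e003, nat_lit 0x58801, nat_lit 0x1620033b80058c03, nat_lit 0x5a001, nat_lit 0x1680033f00199803,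 nat_lit 0x1680033e8005a403, nat_lit 0x5a0002c0006720033c001a1005, nat_lit 0x67e002a7001a1803, nat_lit 0x1a2800d18001600033a0019e005, nat_lit 0x5a801, nat_lit 0x16a000b0001a0003, nat_lit 0x16a0033e8005ac03, nat_lit 0x1620033c001a4003, nat_lit 0x16c000b000059403, nat_lit 0x16c0033c80059403, nat_lit 0x16e0033c80059c03, nat_lit 0x5c001, nat_lit 0x5c801, nat_lit 0x5c8002c40015e00020000ea005, nat_lit 0x108007440067000340001a8005, nat_lit 0x174000b100059c03, nat_lit 0x1a9801, nat_lit 0x1760034080059403, nat_lit 0x1aa801, nat_lit 0x5e001, nat_lit 0x2cc00671001d2000e90007480015f000b2801ab808, nat_lit 0xd60001660033b80059c04, nat_lit 0x17a000bc801acc03, nat_lit 0xd6000166000af000e90007480015f000b3801ad008, nat_lit 0x5f001, nat_lit 0x17c00345001ae003, nat_lit 0x17c003448005f403, nat_lit 0x17e000b40005b403, nat_lit 0x17e003450005fc03, nat_lit 0x17e003460005b403, nat_lit 0x17e003478005b403, nat_lit 0x180003428005bc03, nat_lit 0x1800034580060403, nat_lit 0x60801, nat_lit 0x61001,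 nat_lit 0x1840034a80061403, nat_lit 0x61801, nat_lit 0x618002d40067e00036000fd805, nat_lit 0x1b8007e40067a00348001b4005, nat_lit 0x1880034b0005d403, nat_lit 0x188003498005d403, nat_lit 0x18a0034b0005dc03, nat_lit 0x18a003488005b403, nat_lit 0x69b00355001b6803, nat_lit 0x63001, nat_lit 0x18c0034c801ab803, nat_lit 0x69d00359001b8803, nat_lit 0x64001, nat_lit 0x64801, nat_lit 0x32400170000b10019cc00ce8006800034f001ba008, nat_lit 0x63800326006eb00374801a7c00d0200675000b18005c409, nat_lit 0x37600063802, nat_lit 0x65001, nat_lit 0x19400377801bc003, nat_lit 0x194000b8001a8003, nat_lit 0x1720034f001bc003, nat_lit 0xdea006a3001d5800d7c00ad6006a50037b801bc808, nat_lit 0x1ba40032a006f80037880064c05, nat_lit 0x65801, nat_lit 0x19800354001ac403, nat_lit 0x33000174003418005d404, nat_lit 0x1bf801, nat_lit 0x66801, nat_lit 0x19c003560005ec03, nat_lit 0x7020035b801c1803, nat_lit 0x67801, nat_lit 0x19e0035e80067c03, nat_lit 0x1a00035d00068403, nat_lit 0x1a0000be00060403, nat_lit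 0x70e00388801b2403, nat_lit 0x1a20035d80068c03, nat_lit 0x1a20035c8005fc03, nat_lit 0x7140038b801b0403, nat_lit 0x69001, nat_lit 0x1a40035f801b8003, nat_lit 0x6c700372801c7003, nat_lit 0x1a60038d001c7803, nat_lit 0x1a6000d2801c7803, nat_lit 0x6a001, nat_lit 0x1aa0036580062c03, nat_lit 0x6b001, nat_lit 0x6b801, nat_lit 0x6b800308006960034f001b9805, nat_lit 0x640002e00069200366001ca805, nat_lit 0x6c001, nat_lit 0x1b0003678006c403, nat_lit 0x36000184000b50005a400d180069000366001cc008, nat_lit 0x6a000d96006cc00398001cd00036000184000b5001a3809, nat_lit 0x7240039b8005f403, nat_lit 0x1aa0039c80068c03, nat_lit 0x39d001c9c02, nat_lit 0x6b0003620073500398801b3400d220068d000be80067c09, nat_lit 0x39f001ca402, nat_lit 0x39f0006b002, nat_lit 0x1b2000c200062403, nat_lit 0x1b20036680062403, nat_lit 0x1b40036680062c03, nat_lit 0x1b4000c200062c03, nat_lit 0x6d801, nat_lit 0x1b60036b801bf003, nat_lit 0x1960036c001d3003, nat_lit 0x1b80036b80066403, nat_lit 0x1b80036c80066403, nat_lit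 0x370001880034a80062404, nat_lit 0xdd001d5802, nat_lit 0x1bc0036d801c1003, nat_lit 0x1be0036d80067403, nat_lit 0x75300384801d7003, nat_lit 0x380001bf003af001d6004, nat_lit 0x3800018a0034a80062c04, nat_lit 0x70801, nat_lit 0x1c2000c8001ba003, nat_lit 0x19200373001d9003, nat_lit 0x7680037d801d9803, nat_lit 0x71001, nat_lit 0x19400373001db003, nat_lit 0x71801, nat_lit 0x7180032c006a80035a001c1805, nat_lit 0x705000ce801dc803, nat_lit 0x1c80037e801c0003, nat_lit 0x72801, nat_lit 0x1ca0038680072c03, nat_lit 0x7280033c006ba00385001de005, nat_lit 0x73001, nat_lit 0x39800741000c20005a800d1c006b800385001df808, nat_lit 0xf00001cc000cf0005f000d180069000366001cc008, nat_lit 0x1ce003a18006cc03, nat_lit 0x1ce0038580068403, nat_lit 0x1d0003a18006d403, nat_lit 0x1d00038580068c03, nat_lit 0x1d0000cf00068c03, nat_lit 0x74801, nat_lit 0x75001, nat_lit 0x1d60038a00075c03, nat_lit 0x1d60038b80069c03, nat_lit 0x1d60038c80069c03, nat_lit 0x1d80038a80076403, nat_lit 0x3b0001a20035e80068c04,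 nat_lit 0x76801, nat_lit 0x77001, nat_lit 0x1dc000d7001cc003, nat_lit 0x1de0039a00077c03, nat_lit 0x1de000d80006d403, nat_lit 0xf44007a5003a4801cf000e32006c50036e001d2808, nat_lit 0x78001, nat_lit 0x1e0003a2801d3003, nat_lit 0x1e2003a38006e403, nat_lit 0x3c4001b2003678006cc04, nat_lit 0x1e4003a480070403, nat_lit 0x1e6003a8001dc003, nat_lit 0x75b003ba801ec803, nat_lit 0x1e8003a68006ec03, nat_lit 0x1ea003a780072403, nat_lit 0x1ea000f3801ed003, nat_lit 0x1ea003a6801d5803, nat_lit 0xf6001ed402, nat_lit 0x1ec000de001d8803, nat_lit 0x7b801, nat_lit 0x1ee003b5001f0803, nat_lit 0x7b800ed0006ea003b3001f0805, nat_lit 0x7c4003e30007b8003840076c003b7001bd800d4800042001d00014e000a940037c0029a0014b00064c0001000182000c6800a5c00366001d90016c000da4001860034b001a7800dd0006fb003b3001f081f, nat_lit 0x1e7c00e5a001c3000f7801f2400f860076500397801e7009, nat_lit 0x3e5001e8402, nat_lit 0x3c1801f30003b4001ae003a0001de006, nat_lit 0x3e7001e0c02, nat_lit 0x3e700073002, nat_lit 0x1f0003e880077c03,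 nat_lit 0x1f0000e500073c03, nat_lit 0x1f0003bc80073c03, nat_lit 0x1f0003be0007c403, nat_lit 0x1f0003e980074403, nat_lit 0xf1a0071700361801b7c00e90007a4003ea001f6c08, nat_lit 0x7c801, nat_lit 0x1f2003c2801ea003, nat_lit 0x1d2003c3001f8003, nat_lit 0x1f4003c580075c03, nat_lit 0x1f6003c480079403, nat_lit 0x1f6003c580076403, nat_lit 0x7e001, nat_lit 0x7e0003a40071300391001e5805, nat_lit 0x1e5400e4200710003c7001fb005, nat_lit 0x791000eb801fb803, nat_lit 0xfe0007ec02, nat_lit 0x1fc003f6001fc803, nat_lit 0x1fe003fb001fd403, nat_lit 0x1fe000ea001e6803, nat_lit 0x80001, nat_lit 0x202003d380079403, nat_lit 0x404001de0039980077c04, nat_lit 0x204003d58007ac03, nat_lit 0x204003d4801eb803, nat_lit 0x81801, nat_lit 0x206003ea801ff003, nat_lit 0x206003eb801f8003, nat_lit 0x1f2003ec00201803, nat_lit 0x208003ef0007dc03, nat_lit 0x410001f0003bd8007c404, nat_lit 0x20a003ee8007d403, nat_lit 0x20c003f20007ec03, nat_lit 0x20e003f180081403, nat_lit 0x20e003f20007f403, nat_lit 0x210003fe80200003,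 nat_lit 0x2120040600083403, nat_lit 0x2120040380082c03, nat_lit 0x2140040480084403, nat_lit 0x2140040580083c03, nat_lit 0x2140040600083c03, nat_lit 0x2140040380204003, nat_lit 0x104a00819003fb80075000e280078a003ee00201801018007e4003f6001fc000f26007e6004090020780103a00815003fc001fec00f30007ea004070020980104a00819003fb80075000e280078a003ee00201820, nat_lit 0x8200041480202403, nat_lit 0x8220041480202c03, nat_lit 0x8260041480201c03, nat_lit 0x81a00415801ff403, nat_lit 0x81600416801f8c03, nat_lit 0x80e00417801f7403, nat_lit 0x7fe00418801e9403, nat_lit 0x80200419801eac03, nat_lit 0x80400419801ea403, nat_lit 0x1f70041a80074003, nat_lit 0x20d800fd0008350041e801d0c05, nat_lit 0xf60008370041f801b3404, nat_lit 0x6c80107c00836000f20020fc05, nat_lit 0x7b80041c801d3c03, nat_lit 0x1e60041c001eec03, nat_lit 0x7bc0041c801d3403, nat_lit 0x1e80041c0007a803, nat_lit 0x212000f580083b00421801b3405, nat_lit 0x7480041f801b3403, nat_lit 0x7c10042080061c03, nat_lit 0xec000841000c580213c04,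 nat_lit 0x77600422801bf403, nat_lit 0x211800f6800846003df00214405, nat_lit 0x3ce008470042b801b5004, nat_lit 0x215000ea80084900426801a4c05, nat_lit 0x214800f6c0084b0042c800fdc05, nat_lit 0x216800db00084d0042e800e8405, nat_lit 0x6800042f80010403, nat_lit 0xaf80218402, nat_lit 0x5aa00431000fd003, nat_lit 0x6020023d0017e000c9c006080004a000178000600001a0019e000d0800a90003b0002b60014e8006740001600195000d580074400862001fa0015380013800444003370019a00088c00661002f90012401f, nat_lit 0x61a0030e00031000bec0049a0030200181800bf8000ac0003b0001200004c003600029e000fc8010c8005aa0032900010000750003f8002d600100000b640058e001f000151000bd400434002f00013281f, nat_lit 0x10c0043300037403, nat_lit 0x3b800cda00866003010011f805, nat_lit 0x49d0043500137c03, nat_lit 0x85801, nat_lit 0x2180010b00192403, nat_lit 0x216002688021c803, nat_lit 0x86801, nat_lit 0x615004380021d803, nat_lit 0x87001, nat_lit 0x2200010b0004cc03, nat_lit 0x220004388004cc03, nat_lit 0x11200088402, nat_lit 0x89801, nat_lit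 0x8a001, nat_lit 0x2280010d0021e803, nat_lit 0x21c0043b00221003, nat_lit 0x22a0043c00053c03, nat_lit 0x8b001, nat_lit 0x8b801, nat_lit 0x41000900008700043d00223805, nat_lit 0x2300043d80088403, nat_lit 0x2320043d80087c03, nat_lit 0x225001, nat_lit 0x2340043d80089403, nat_lit 0x8d801, nat_lit 0x47c0087d002838004d8002000086c0009080052c08, nat_lit 0x4800087f0026980142400260002170010f80226808, nat_lit 0x484002220010f8008ec04, nat_lit 0x12200090c02, nat_lit 0x48c002240010f8008f404, nat_lit 0x490002240011180091404, nat_lit 0x490008810012080227c04, nat_lit 0x1140008a2004530022a404, nat_lit 0x92801, nat_lit 0x93001, nat_lit 0x4980096000872004410022b805, nat_lit 0x93801, nat_lit 0x250004440008c403, nat_lit 0x250004428008ac03, nat_lit 0x4a40088b0028c8005480025800868000a280056408, nat_lit 0x95001, nat_lit 0x95801, nat_lit 0x96001, nat_lit 0x4b00022c0010e000864010e80087a004460022f808, nat_lit 0x950004b2008c10045f802234010f6008750011380092c09, nat_lit 0x4610022ec02, nat_lit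 0x96801, nat_lit 0x22e0044600231803, nat_lit 0x25c001160008c403, nat_lit 0x25c004468008c403, nat_lit 0x25e004468008cc03, nat_lit 0x13000097402, nat_lit 0x260004468008d403, nat_lit 0x262004480004e403, nat_lit 0x264004498008fc03, nat_lit 0x2660044b0008e403, nat_lit 0x236001, nat_lit 0x26a0044c80091c03, nat_lit 0x4d400234001198009a404, nat_lit 0x237001, nat_lit 0x1360022a002, nat_lit 0x26c0044d8008f403, nat_lit 0x4d8008aa0011d0008e404, nat_lit 0x9b801, nat_lit 0x25a004620023a003, nat_lit 0x24c004560023a003, nat_lit 0x9c001, nat_lit 0x9c00049c00888004460022f005, nat_lit 0x9580045800886004590023b805, nat_lit 0x2720045a80099403, nat_lit 0x2720045b80094c03, nat_lit 0x9d001, nat_lit 0x9d801, nat_lit 0x2760012b0022f803, nat_lit 0x2580045e0023e803, nat_lit 0x9e001, nat_lit 0x25a0045e00240003, nat_lit 0x27a0012b00097403, nat_lit 0x27c0045e80097c03, nat_lit 0x27e0045e80098403, nat_lit 0xa0001, nat_lit 0x2820012c00097403, nat_lit 0xa1001, nat_lit 0x2860046400098c03, nat_lit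 0x2880046680099403, nat_lit 0x2880046580099403, nat_lit 0x28a0046780099c03, nat_lit 0x28e004698009ac03, nat_lit 0x51c002600012f800a3404, nat_lit 0xa4001, nat_lit 0xa40011ae0089d0030b80145005, nat_lit 0x508008eb004760022c000c1e006210027d80247808, nat_lit 0x9150048e00248003, nat_lit 0xa00004b0008c60048700248805, nat_lit 0x90d0014480249003, nat_lit 0x2920046d00239803, nat_lit 0x24a001, nat_lit 0xa5001, nat_lit 0x298004790009ec03, nat_lit 0x298004788009ec03, nat_lit 0x29a004790009fc03, nat_lit 0xa70011ee008b90031280148005, nat_lit 0xa7801, nat_lit 0x2a00013a0009ec03, nat_lit 0x2a20047c8009f403, nat_lit 0x2a40047c8009fc03, nat_lit 0x2a40013a0009fc03, nat_lit 0xa9801, nat_lit 0xa98011fc008c00047e00250005, nat_lit 0xaa001, nat_lit 0x2a80047f00242803, nat_lit 0x2800047e00251003, nat_lit 0x2aa0047f000a0c03, nat_lit 0x2aa0013b0009ec03, nat_lit 0x9480049300252803, nat_lit 0x2ac0047d8009fc03, nat_lit 0x2ac0013b0009fc03, nat_lit 0x2ae00481000a1c03, nat_lit 0x2ae004808009ec03,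 nat_lit 0x2b000482800a2403, nat_lit 0x2b0004a600253803, nat_lit 0x9470049280256003, nat_lit 0x2b200483800a2c03, nat_lit 0x2b400484800a3c03, nat_lit 0x2b60048b800a4c03, nat_lit 0x2b800496800a6c03, nat_lit 0x2ba0014b000a6403, nat_lit 0x15e000aec02, nat_lit 0x2bc0014b000a6c03, nat_lit 0x2be00498800ac403, nat_lit 0x2be00497800ac403, nat_lit 0x2c00049b800a9403, nat_lit 0x2c20049c800ac403, nat_lit 0x2c40049d800acc03, nat_lit 0x588002a200150800b0c04, nat_lit 0x2c60049e800ad403, nat_lit 0xb2001, nat_lit 0xb2801, nat_lit 0x2ca0015300251003, nat_lit 0x2a8004a00025f003, nat_lit 0x2cc004a1000b3403, nat_lit 0x2cc00153000aac03, nat_lit 0x97b004a08023f40050200925004898023d00053a009350033500147000a3e0086e0024f0017bc008d0005f000305001860009cc0065a002ff801368009b0008d400488002550012ae0094c004c20026081f, nat_lit 0x2ca0016680261803, nat_lit 0x2ce004a0800ab403, nat_lit 0x2ce00153000ab403, nat_lit 0x2ce0016480262003, nat_lit 0x2ce004bd00262003, nat_lit 0x12d600933004a80026280132200980004ae8025c808,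 nat_lit 0x12ca00933004a80026280132200980004ae8025b008, nat_lit 0x12e20093f004a90026300131e0097f004ad0025b808, nat_lit 0x977004c90025a403, nat_lit 0x4cb80265002, nat_lit 0x4cd0025c402, nat_lit 0x9670015f80265003, nat_lit 0x58c0099c004cf00266004, nat_lit 0x978004d08025d403, nat_lit 0x960004d180257c03, nat_lit 0x918004d280245c03, nat_lit 0x28f004d2800a2803, nat_lit 0x2b6004d200246c03, nat_lit 0x8e1004d380236803, nat_lit 0x292004d300237c03, nat_lit 0x28c004d400234403, nat_lit 0x26b8012c4009ab004d880233405, nat_lit 0x8e7004d600229403, nat_lit 0x247004d68008e003, nat_lit 0x26d001256009af004d980224c05, nat_lit 0x26e0011c8009b5004dc8021fc05, nat_lit 0x23880136a009b9004dd8004c805, nat_lit 0x43e009b6001248026f404, nat_lit 0x10b8026fc02]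
theorem st0 : band (steps F IV RT base st0_l 360) (Nat.beq (Nat.add 360 (llen st0_l)) 1249) = true := by decide +kernel

theorem rot1_1 : T.rot 1 [8] (sel (ones 819) ip1 1) = true := by decide +kernel

theorem rot1_1r : band (Rule.ok (2 * 0) EX RL ⟨1 :: [8], [], 27, false⟩) (lall (memL L) [8]) = true := by decide +kernel

theorem rot1_2 : T.rot 1 [1] (sel (ones 819) ip1 2) = true := by decide +kernel

theorem rot1_2r : band (Rule.ok (2 * 0) EX RL ⟨1 :: [1], [], 0, true⟩) (lall (memL L) [1]) = true := by decide +kernel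

theorem rot1_3 : T.rot 1 [5, 1, 5] (sel (ones 819) ip1 3) = true := by decide +kernel

theorem rot1_3r : band (Rule.ok (2 * 0) EX RL ⟨1 :: [5, 1, 5], [0], 6, true⟩) (lall (memL L) [5, 1, 5]) = true := by decide +kernel

theorem rot1_4 : T.rot 1 [6, 8, 13] (sel (ones 819) ip1 4) = true := by decide +kernel

theorem rot1_4r : band (Rule.ok (2 * 0) EX RL ⟨1 :: [6, 8, 13], [], 15, true⟩) (lall (memL L) [6, 8, 13]) = true := by decide +kernel

theorem rot1_5 : T.rot 1 [13, 8, 6] (sel (ones 819) ip1 5) = true := by decide +kernel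

theorem rot1_5r : band (Rule.ok (2 * 0) EX RL ⟨1 :: [13, 8, 6], [11], 15, false⟩) (lall (memL L) [13, 8, 6]) = true := by decide +kernel

theorem rot1_6 : T.rot 1 [7, 8, 14] (sel (ones 819) ip1 6) = true := by decide +kernel

theorem rot1_6r : band (Rule.ok (2 * 0) EX RL ⟨1 :: [7, 8, 14], [], 21, true⟩) (lall (memL L) [7, 8, 14]) = true := by decide +kernel

theorem rot1_7 : T.rot 1 [14, 8, 7] (sel (ones 819) ip1 7) = true := by decide +kernel

theorem rot1_7r : band (Rule.ok (2 * 0) EX RL ⟨1 :: [14, 8, 7], [13], 21, false⟩) (lall (memL L) [14, 8, 7]) = true := by decide +kernel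

theorem rot1_8 : T.rot 1 [2, 1, 2, 1, 2] (sel (ones 819) ip1 8) = true := by decide +kernel

theorem rot1_8r : band (Rule.ok (2 * 0) EX RL ⟨1 :: [2, 1, 2, 1, 2], [0], 5, true⟩) (lall (memL L) [2, 1, 2, 1, 2]) = true := by decide +kernel

theorem rot1_9 : T.rot 1 [10, 11, 10, 11, 10, 11, 10, 11] (sel (ones 819) ip1 9) = true := by decide +kernel

theorem rot1_9r : band (Rule.ok (2 * 0) EX RL ⟨1 :: [10, 11, 10, 11, 10, 11, 10, 11], [0], 10, true⟩) (lall (memL L) [10, 11, 10, 11, 10, 11, 10, 11]) = true := by decide +kernel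

theorem cov1 : T.cover 1 [(sel (ones 819) ip1 1), (sel (ones 819) ip1 2), (sel (ones 819) ip1 3), (sel (ones 819) ip1 4), (sel (ones 819) ip1 5), (sel (ones 819) ip1 6), (sel (ones 819) ip1 7), (sel (ones 819) ip1 8), (sel (ones 819) ip1 9), 1] = true := by decide +kernel

theorem tl1 : T.treeLt 10 1 = true := by decide +kernel

theorem rot2_1 : T.rot 2 [2] (sel (ones 819) ip2 1) = true := by decide +kernel

theorem rot2_1r : band (Rule.ok (2 * 0) EX RL ⟨2 :: [2], [], 1, true⟩) (lall (memL L) [2]) = true := by decide +kernel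

theorem rot2_2 : T.rot 2 [4, 2, 4] (sel (ones 819) ip2 2) = true := by decide +kernel

theorem rot2_2r : band (Rule.ok (2 * 0) EX RL ⟨2 :: [4, 2, 4], [2], 8, true⟩) (lall (memL L) [4, 2, 4]) = true := by decide +kernel

theorem rot2_3 : T.rot 2 [5, 2, 5] (sel (ones 819) ip2 3) = true := by decide +kernel

theorem rot2_3r : band (Rule.ok (2 * 0) EX RL ⟨2 :: [5, 2, 5], [2], 9, true⟩) (lall (memL L) [5, 2, 5]) = true := by decide +kernel

theorem rot2_4 : T.rot 2 [6, 9, 13] (sel (ones 819) ip2 4) = true := by decide +kernel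

theorem rot2_4r : band (Rule.ok (2 * 0) EX RL ⟨2 :: [6, 9, 13], [], 16, true⟩) (lall (memL L) [6, 9, 13]) = true := by decide +kernel

theorem rot2_5 : T.rot 2 [13, 9, 6] (sel (ones 819) ip2 5) = true := by decide +kernel

theorem rot2_5r : band (Rule.ok (2 * 0) EX RL ⟨2 :: [13, 9, 6], [11], 16, false⟩) (lall (memL L) [13, 9, 6]) = true := by decide +kernel

theorem rot2_6 : T.rot 2 [7, 9, 14] (sel (ones 819) ip2 6) = true := by decide +kernel

theorem rot2_6r : band (Rule.ok (2 * 0) EX RL ⟨2 :: [7, 9, 14], [], 22, true⟩) (lall (memL L) [7, 9, 14]) = true := by decide +kernel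

theorem rot2_7 : T.rot 2 [14, 9, 7] (sel (ones 819) ip2 7) = true := by decide +kernel

theorem rot2_7r : band (Rule.ok (2 * 0) EX RL ⟨2 :: [14, 9, 7], [13], 22, false⟩) (lall (memL L) [14, 9, 7]) = true := by decide +kernel

theorem rot2_8 : T.rot 2 [1, 2, 1, 2, 1] (sel (ones 819) ip2 8) = true := by decide +kernel

theorem rot2_8r : band (Rule.ok (2 * 0) EX RL ⟨2 :: [1, 2, 1, 2, 1], [], 5, true⟩) (lall (memL L) [1, 2, 1, 2, 1]) = true := by decide +kernel

theorem rot2_9 : T.rot 2 [3, 2, 3, 2, 3] (sel (ones 819) ip2 9) = true := by decide +kernel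

theorem rot2_9r : band (Rule.ok (2 * 0) EX RL ⟨2 :: [3, 2, 3, 2, 3], [2], 7, true⟩) (lall (memL L) [3, 2, 3, 2, 3]) = true := by decide +kernel

theorem rot2_10 : T.rot 2 [5, 4, 3, 2, 5, 4, 3, 2, 5, 4, 3, 2, 5, 4, 3, 2, 5, 4, 3, 2, 5, 4, 3, 2, 5, 4, 3, 2, 5, 4, 3] (sel (ones 819) ip2 10) = true := by decide +kernel

theorem rot2_10r : band (Rule.ok (2 * 0) EX RL ⟨2 :: [5, 4, 3, 2, 5, 4, 3, 2, 5, 4, 3, 2, 5, 4, 3, 2, 5, 4, 3, 2, 5, 4, 3, 2, 5, 4, 3, 2, 5, 4, 3], [2], 13, true⟩) (lall (memL L) [5, 4, 3, 2, 5, 4, 3, 2, 5, 4, 3, 2, 5, 4, 3, 2, 5, 4, 3, 2, 5, 4, 3, 2, 5, 4, 3, 2, 5, 4, 3]) = true := by decide +kernel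

theorem cov2 : T.cover 2 [(sel (ones 819) ip2 1), (sel (ones 819) ip2 2), (sel (ones 819) ip2 3), (sel (ones 819) ip2 4), (sel (ones 819) ip2 5), (sel (ones 819) ip2 6), (sel (ones 819) ip2 7), (sel (ones 819) ip2 8), (sel (ones 819) ip2 9), (sel (ones 819) ip2 10)] = true := by decide +kernel

theorem tl2 : T.treeLt 10 2 = true := by decide +kernel

theorem rot3_1 : T.rot 3 [10] (sel (ones 819) ip3 1) = true := by decide +kernel

theorem rot3_1r : band (Rule.ok (2 * 0) EX RL ⟨3 :: [10], [], 27, false⟩) (lall (memL L) [10]) = true := by decide +kernel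

theorem rot3_2 : T.rot 3 [3] (sel (ones 819) ip3 2) = true := by decide +kernel

theorem rot3_2r : band (Rule.ok (2 * 0) EX RL ⟨3 :: [3], [], 2, true⟩) (lall (memL L) [3]) = true := by decide +kernel

theorem rot3_3 : T.rot 3 [5, 3, 5] (sel (ones 819) ip3 3) = true := by decide +kernel

theorem rot3_3r : band (Rule.ok (2 * 0) EX RL ⟨3 :: [5, 3, 5], [4], 11, true⟩) (lall (memL L) [5, 3, 5]) = true := by decide +kernel

theorem rot3_4 : T.rot 3 [6, 10, 13] (sel (ones 819) ip3 4) = true := by decide +kernel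

theorem rot3_4r : band (Rule.ok (2 * 0) EX RL ⟨3 :: [6, 10, 13], [], 17, true⟩) (lall (memL L) [6, 10, 13]) = true := by decide +kernel

theorem rot3_5 : T.rot 3 [13, 10, 6] (sel (ones 819) ip3 5) = true := by decide +kernel

theorem rot3_5r : band (Rule.ok (2 * 0) EX RL ⟨3 :: [13, 10, 6], [11], 17, false⟩) (lall (memL L) [13, 10, 6]) = true := by decide +kernel

theorem rot3_6 : T.rot 3 [7, 10, 14] (sel (ones 819) ip3 6) = true := by decide +kernel

theorem rot3_6r : band (Rule.ok (2 * 0) EX RL ⟨3 :: [7, 10, 14], [], 23, true⟩) (lall (memL L) [7, 10, 14]) = true := by decide +kernel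

theorem rot3_7 : T.rot 3 [14, 10, 7] (sel (ones 819) ip3 7) = true := by decide +kernel

theorem rot3_7r : band (Rule.ok (2 * 0) EX RL ⟨3 :: [14, 10, 7], [13], 23, false⟩) (lall (memL L) [14, 10, 7]) = true := by decide +kernel

theorem rot3_8 : T.rot 3 [2, 3, 2, 3, 2] (sel (ones 819) ip3 8) = true := by decide +kernel

theorem rot3_8r : band (Rule.ok (2 * 0) EX RL ⟨3 :: [2, 3, 2, 3, 2], [], 7, true⟩) (lall (memL L) [2, 3, 2, 3, 2]) = true := by decide +kernel

theorem rot3_9 : T.rot 3 [4, 3, 4, 3, 4, 3, 8, 4] (sel (ones 819) ip3 9) = true := by decide +kernel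

theorem rot3_9r : band (Rule.ok (2 * 0) EX RL ⟨3 :: [4, 3, 4, 3, 4, 3, 8, 4], [0, 7], 10, false⟩) (lall (memL L) [4, 3, 4, 3, 4, 3, 8, 4]) = true := by decide +kernel

theorem rot3_10 : T.rot 3 [4, 3, 4, 3, 8, 4, 3, 4] (sel (ones 819) ip3 10) = true := by decide +kernel

theorem rot3_10r : band (Rule.ok (2 * 0) EX RL ⟨3 :: [4, 3, 4, 3, 8, 4, 3, 4], [0, 7, 5, 7], 10, false⟩) (lall (memL L) [4, 3, 4, 3, 8, 4, 3, 4]) = true := by decide +kernel

theorem rot3_11 : T.rot 3 [4, 3, 8, 4, 3, 4, 3, 4] (sel (ones 819) ip3 11) = true := by decide +kernel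

theorem rot3_11r : band (Rule.ok (2 * 0) EX RL ⟨3 :: [4, 3, 8, 4, 3, 4, 3, 4], [4, 6, 4], 10, false⟩) (lall (memL L) [4, 3, 8, 4, 3, 4, 3, 4]) = true := by decide +kernel

theorem rot3_12 : T.rot 3 [8, 4, 3, 4, 3, 4, 3, 4] (sel (ones 819) ip3 12) = true := by decide +kernel

theorem rot3_12r : band (Rule.ok (2 * 0) EX RL ⟨3 :: [8, 4, 3, 4, 3, 4, 3, 4], [4], 10, false⟩) (lall (memL L) [8, 4, 3, 4, 3, 4, 3, 4]) = true := by decide +kernel

theorem rot3_13 : T.rot 3 [2, 5, 4, 3, 2, 5, 4, 3, 2, 5, 4, 3, 2, 5, 4, 3, 2, 5, 4, 3, 2, 5, 4, 3, 2, 5, 4, 3, 2, 5, 4] (sel (ones 819) ip3 13) = true := by decide +kernel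

theorem rot3_13r : band (Rule.ok (2 * 0) EX RL ⟨3 :: [2, 5, 4, 3, 2, 5, 4, 3, 2, 5, 4, 3, 2, 5, 4, 3, 2, 5, 4, 3, 2, 5, 4, 3, 2, 5, 4, 3, 2, 5, 4], [2, 4], 13, true⟩) (lall (memL L) [2, 5, 4, 3, 2, 5, 4, 3, 2, 5, 4, 3, 2, 5, 4, 3, 2, 5, 4, 3, 2, 5, 4, 3, 2, 5, 4, 3, 2, 5, 4]) = true := by decide +kernel

theorem cov3 : T.cover 3 [(sel (ones 819) ip3 1), (sel (ones 819) ip3 2), (sel (ones 819) ip3 3), (sel (ones 819) ip3 4), (sel (ones 819) ip3 5), (sel (ones 819) ip3 6), (sel (ones 819) ip3 7), (sel (ones 819) ip3 8), (sel (ones 819) ip3 9), (sel (ones 819) ip3 10), (sel (ones 819) ip3 11), (sel (ones 819) ip3 12), (sel (ones 819) ip3 13), 1] = true := by decide +kernel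

theorem tl3 : T.treeLt 10 3 = true := by decide +kernel

theorem rot4_1 : T.rot 4 [11] (sel (ones 819) ip4 1) = true := by decide +kernel

theorem rot4_1r : band (Rule.ok (2 * 0) EX RL ⟨4 :: [11], [], 27, false⟩) (lall (memL L) [11]) = true := by decide +kernel

theorem rot4_2 : T.rot 4 [4] (sel (ones 819) ip4 2) = true := by decide +kernel

theorem rot4_2r : band (Rule.ok (2 * 0) EX RL ⟨4 :: [4], [], 3, true⟩) (lall (memL L) [4]) = true := by decide +kernel

theorem rot4_3 : T.rot 4 [2, 4, 2] (sel (ones 819) ip4 3) = true := by decide +kernel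

theorem rot4_3r : band (Rule.ok (2 * 0) EX RL ⟨4 :: [2, 4, 2], [], 8, true⟩) (lall (memL L) [2, 4, 2]) = true := by decide +kernel

theorem rot4_4 : T.rot 4 [6, 4, 6] (sel (ones 819) ip4 4) = true := by decide +kernel

theorem rot4_4r : band (Rule.ok (2 * 0) EX RL ⟨4 :: [6, 4, 6], [], 18, true⟩) (lall (memL L) [6, 4, 6]) = true := by decide +kernel

theorem rot4_5 : T.rot 4 [7, 11, 14] (sel (ones 819) ip4 5) = true := by decide +kernel

theorem rot4_5r : band (Rule.ok (2 * 0) EX RL ⟨4 :: [7, 11, 14], [], 24, true⟩) (lall (memL L) [7, 11, 14]) = true := by decide +kernel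

theorem rot4_6 : T.rot 4 [14, 11, 7] (sel (ones 819) ip4 6) = true := by decide +kernel

theorem rot4_6r : band (Rule.ok (2 * 0) EX RL ⟨4 :: [14, 11, 7], [13], 24, false⟩) (lall (memL L) [14, 11, 7]) = true := by decide +kernel

theorem rot4_7 : T.rot 4 [5, 4, 5, 4, 5] (sel (ones 819) ip4 7) = true := by decide +kernel

theorem rot4_7r : band (Rule.ok (2 * 0) EX RL ⟨4 :: [5, 4, 5, 4, 5], [6], 12, true⟩) (lall (memL L) [5, 4, 5, 4, 5]) = true := by decide +kernel

theorem rot4_8 : T.rot 4 [3, 4, 3, 4, 3, 4, 3, 8] (sel (ones 819) ip4 8) = true := by decide +kernel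

theorem rot4_8r : band (Rule.ok (2 * 0) EX RL ⟨4 :: [3, 4, 3, 4, 3, 4, 3, 8], [0], 10, false⟩) (lall (memL L) [3, 4, 3, 4, 3, 4, 3, 8]) = true := by decide +kernel

theorem rot4_9 : T.rot 4 [3, 4, 3, 4, 3, 8, 4, 3] (sel (ones 819) ip4 9) = true := by decide +kernel

theorem rot4_9r : band (Rule.ok (2 * 0) EX RL ⟨4 :: [3, 4, 3, 4, 3, 8, 4, 3], [0, 7, 5], 10, false⟩) (lall (memL L) [3, 4, 3, 4, 3, 8, 4, 3]) = true := by decide +kernel

theorem rot4_10 : T.rot 4 [3, 4, 3, 8, 4, 3, 4, 3] (sel (ones 819) ip4 10) = true := by decide +kernel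

theorem rot4_10r : band (Rule.ok (2 * 0) EX RL ⟨4 :: [3, 4, 3, 8, 4, 3, 4, 3], [4, 6, 4, 6], 10, false⟩) (lall (memL L) [3, 4, 3, 8, 4, 3, 4, 3]) = true := by decide +kernel

theorem rot4_11 : T.rot 4 [3, 8, 4, 3, 4, 3, 4, 3] (sel (ones 819) ip4 11) = true := by decide +kernel

theorem rot4_11r : band (Rule.ok (2 * 0) EX RL ⟨4 :: [3, 8, 4, 3, 4, 3, 4, 3], [4, 6], 10, false⟩) (lall (memL L) [3, 8, 4, 3, 4, 3, 4, 3]) = true := by decide +kernel

theorem rot4_12 : T.rot 4 [3, 2, 5, 4, 3, 2, 5, 4, 3, 2, 5, 4, 3, 2, 5, 4, 3, 2, 5, 4, 3, 2, 5, 4, 3, 2, 5, 4, 3, 2, 5] (sel (ones 819) ip4 12) = true := by decide +kernel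

theorem rot4_12r : band (Rule.ok (2 * 0) EX RL ⟨4 :: [3, 2, 5, 4, 3, 2, 5, 4, 3, 2, 5, 4, 3, 2, 5, 4, 3, 2, 5, 4, 3, 2, 5, 4, 3, 2, 5, 4, 3, 2, 5], [9], 13, true⟩) (lall (memL L) [3, 2, 5, 4, 3, 2, 5, 4, 3, 2, 5, 4, 3, 2, 5, 4, 3, 2, 5, 4, 3, 2, 5, 4, 3, 2, 5, 4, 3, 2, 5]) = true := by decide +kernel

theorem cov4 : T.cover 4 [(sel (ones 819) ip4 1), (sel (ones 819) ip4 2), (sel (ones 819) ip4 3), (sel (ones 819) ip4 4), (sel (ones 819) ip4 5), (sel (ones 819) ip4 6), (sel (ones 819) ip4 7), (sel (ones 819) ip4 8), (sel (ones 819) ip4 9), (sel (ones 819) ip4 10), (sel (ones 819) ip4 11), (sel (ones 819) ip4 12), 1] = true := by decide +kernel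

theorem tl4 : T.treeLt 10 4 = true := by decide +kernel

theorem rot5_1 : T.rot 5 [12] (sel (ones 819) ip5 1) = true := by decide +kernel

theorem rot5_1r : band (Rule.ok (2 * 0) EX RL ⟨5 :: [12], [], 27, false⟩) (lall (memL L) [12]) = true := by decide +kernel

theorem rot5_2 : T.rot 5 [5] (sel (ones 819) ip5 2) = true := by decide +kernel

theorem rot5_2r : band (Rule.ok (2 * 0) EX RL ⟨5 :: [5], [], 4, true⟩) (lall (memL L) [5]) = true := by decide +kernel

theorem rot5_3 : T.rot 5 [1, 5, 1] (sel (ones 819) ip5 3) = true := by decide +kernel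

theorem rot5_3r : band (Rule.ok (2 * 0) EX RL ⟨5 :: [1, 5, 1], [], 6, true⟩) (lall (memL L) [1, 5, 1]) = true := by decide +kernel

theorem rot5_4 : T.rot 5 [2, 5, 2] (sel (ones 819) ip5 4) = true := by decide +kernel

theorem rot5_4r : band (Rule.ok (2 * 0) EX RL ⟨5 :: [2, 5, 2], [], 9, true⟩) (lall (memL L) [2, 5, 2]) = true := by decide +kernel

theorem rot5_5 : T.rot 5 [3, 5, 3] (sel (ones 819) ip5 5) = true := by decide +kernel

theorem rot5_5r : band (Rule.ok (2 * 0) EX RL ⟨5 :: [3, 5, 3], [], 11, true⟩) (lall (memL L) [3, 5, 3]) = true := by decide +kernel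

theorem rot5_6 : T.rot 5 [7, 12, 14] (sel (ones 819) ip5 6) = true := by decide +kernel

theorem rot5_6r : band (Rule.ok (2 * 0) EX RL ⟨5 :: [7, 12, 14], [], 25, true⟩) (lall (memL L) [7, 12, 14]) = true := by decide +kernel

theorem rot5_7 : T.rot 5 [14, 12, 7] (sel (ones 819) ip5 7) = true := by decide +kernel

theorem rot5_7r : band (Rule.ok (2 * 0) EX RL ⟨5 :: [14, 12, 7], [13], 25, false⟩) (lall (memL L) [14, 12, 7]) = true := by decide +kernel

theorem rot5_8 : T.rot 5 [4, 5, 4, 5, 4] (sel (ones 819) ip5 8) = true := by decide +kernel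

theorem rot5_8r : band (Rule.ok (2 * 0) EX RL ⟨5 :: [4, 5, 4, 5, 4], [], 12, true⟩) (lall (memL L) [4, 5, 4, 5, 4]) = true := by decide +kernel

theorem rot5_9 : T.rot 5 [13, 12, 6, 6, 6, 12, 13, 13] (sel (ones 819) ip5 9) = true := by decide +kernel

theorem rot5_9r : band (Rule.ok (2 * 0) EX RL ⟨5 :: [13, 12, 6, 6, 6, 12, 13, 13], [9, 11, 8], 19, true⟩) (lall (memL L) [13, 12, 6, 6, 6, 12, 13, 13]) = true := by decide +kernel

theorem rot5_10 : T.rot 5 [6, 12, 6, 6, 5, 13, 13, 13] (sel (ones 819) ip5 10) = true := by decide +kernel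

theorem rot5_10r : band (Rule.ok (2 * 0) EX RL ⟨5 :: [6, 12, 6, 6, 5, 13, 13, 13], [], 19, false⟩) (lall (memL L) [6, 12, 6, 6, 5, 13, 13, 13]) = true := by decide +kernel

theorem rot5_11 : T.rot 5 [13, 13, 13, 5, 6, 12, 6, 6] (sel (ones 819) ip5 11) = true := by decide +kernel

theorem rot5_11r : band (Rule.ok (2 * 0) EX RL ⟨5 :: [13, 13, 13, 5, 6, 12, 6, 6], [11, 11, 11, 8], 19, false⟩) (lall (memL L) [13, 13, 13, 5, 6, 12, 6, 6]) = true := by decide +kernel

theorem rot5_12 : T.rot 5 [4, 3, 2, 5, 4, 3, 2, 5, 4, 3, 2, 5, 4, 3, 2, 5, 4, 3, 2, 5, 4, 3, 2, 5, 4, 3, 2, 5, 4, 3, 2] (sel (ones 819) ip5 12) = true := by decide +kernel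

theorem rot5_12r : band (Rule.ok (2 * 0) EX RL ⟨5 :: [4, 3, 2, 5, 4, 3, 2, 5, 4, 3, 2, 5, 4, 3, 2, 5, 4, 3, 2, 5, 4, 3, 2, 5, 4, 3, 2, 5, 4, 3, 2], [], 13, true⟩) (lall (memL L) [4, 3, 2, 5, 4, 3, 2, 5, 4, 3, 2, 5, 4, 3, 2, 5, 4, 3, 2, 5, 4, 3, 2, 5, 4, 3, 2, 5, 4, 3, 2]) = true := by decide +kernel

theorem ep0a : T.treePath [2, 1, 3, 2, 4, 3, 4] (Nat.shiftLeft 1 33) 1 = true := by decide +kernel

theorem ep0b : T.treePath [2, 1, 3, 2, 4, 3, 4] (Nat.shiftLeft 1 33) 1 = true := by decide +kernel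

theorem ep0c : band (lall (fun z => Nat.ble z 255) ([2, 1, 3, 2, 4, 3, 4] ++ 5 :: [11, 10, 11, 9, 10, 8, 9])) (concl F IV 1249 0x10000180001c000160001300010800104010c400040000100000480001400006000010000000f (encA ([2, 1, 3, 2, 4, 3, 4] ++ 5 :: [11, 10, 11, 9, 10, 8, 9]) 0)) = true := by decide +kernel

theorem ep0d : band (Rule.ok (2 * 0) EX [] ⟨lapp [2, 1, 3, 2, 4, 3, 4] [11, 10, 11, 9, 10, 8, 9], [], 0, false⟩) (band (lall (memL L) [2, 1, 3, 2, 4, 3, 4]) (lall (memL L) [2, 1, 3, 2, 4, 3, 4])) = true := by decide +kernel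

theorem ep1a : T.treePath [2, 3, 4, 3, 2, 5, 4, 3, 4, 6] (Nat.shiftLeft 1 210) 1 = true := by decide +kernel

theorem ep1b : T.treePath [2, 3, 4, 3, 2, 5, 4, 3, 4, 6] (Nat.shiftLeft 1 210) 1 = true := by decide +kernel

theorem ep1c : band (lall (fun z => Nat.ble z 255) ([2, 3, 4, 3, 2, 5, 4, 3, 4, 6] ++ 5 :: [13, 11, 10, 11, 12, 9, 10, 11, 10, 9])) (concl F IV 1249 0x40000a00009000078000640005e0005900045800314001fe009c00007f0003100011400058000170000600001c000080000200000015 (encA ([2, 3, 4, 3, 2, 5, 4, 3, 4, 6] ++ 5 :: [13, 11, 10, 11, 12, 9, 10, 11, 10, 9]) 0)) = true := by decide +kernel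

theorem ep1d : band (Rule.ok (2 * 0) EX [] ⟨lapp [2, 3, 4, 3, 2, 5, 4, 3, 4, 6] [13, 11, 10, 11, 12, 9, 10, 11, 10, 9], [], 0, false⟩) (band (lall (memL L) [2, 3, 4, 3, 2, 5, 4, 3, 4, 6]) (lall (memL L) [2, 3, 4, 3, 2, 5, 4, 3, 4, 6])) = true := by decide +kernel

theorem cov5 : T.cover 5 [(sel (ones 819) ip5 1), (sel (ones 819) ip5 2), (sel (ones 819) ip5 3), (sel (ones 819) ip5 4), (sel (ones 819) ip5 5), (sel (ones 819) ip5 6), (sel (ones 819) ip5 7), (sel (ones 819) ip5 8), (sel (ones 819) ip5 9), (sel (ones 819) ip5 10), (sel (ones 819) ip5 11), (sel (ones 819) ip5 12), 1, (Nat.shiftLeft 1 33), (Nat.shiftLeft 1 210)] = true := by decide +kernel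

theorem tl5 : T.treeLt 10 5 = true := by decide +kernel

theorem rot6_1 : T.rot 6 [13] (sel (ones 819) ip6 1) = true := by decide +kernel

theorem rot6_1r : band (Rule.ok (2 * 0) EX RL ⟨6 :: [13], [], 27, false⟩) (lall (memL L) [13]) = true := by decide +kernel

theorem rot6_2 : T.rot 6 [8, 13, 1] (sel (ones 819) ip6 2) = true := by decide +kernel

theorem rot6_2r : band (Rule.ok (2 * 0) EX RL ⟨6 :: [8, 13, 1], [1], 15, true⟩) (lall (memL L) [8, 13, 1]) = true := by decide +kernel

theorem rot6_3 : T.rot 6 [1, 13, 8] (sel (ones 819) ip6 3) = true := by decide +kernel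

theorem rot6_3r : band (Rule.ok (2 * 0) EX RL ⟨6 :: [1, 13, 8], [], 15, false⟩) (lall (memL L) [1, 13, 8]) = true := by decide +kernel

theorem rot6_4 : T.rot 6 [9, 13, 2] (sel (ones 819) ip6 4) = true := by decide +kernel

theorem rot6_4r : band (Rule.ok (2 * 0) EX RL ⟨6 :: [9, 13, 2], [3], 16, true⟩) (lall (memL L) [9, 13, 2]) = true := by decide +kernel

theorem rot6_5 : T.rot 6 [2, 13, 9] (sel (ones 819) ip6 5) = true := by decide +kernel

theorem rot6_5r : band (Rule.ok (2 * 0) EX RL ⟨6 :: [2, 13, 9], [], 16, false⟩) (lall (memL L) [2, 13, 9]) = true := by decide +kernel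

theorem rot6_6 : T.rot 6 [10, 13, 3] (sel (ones 819) ip6 6) = true := by decide +kernel

theorem rot6_6r : band (Rule.ok (2 * 0) EX RL ⟨6 :: [10, 13, 3], [5], 17, true⟩) (lall (memL L) [10, 13, 3]) = true := by decide +kernel

theorem rot6_7 : T.rot 6 [3, 13, 10] (sel (ones 819) ip6 7) = true := by decide +kernel

theorem rot6_7r : band (Rule.ok (2 * 0) EX RL ⟨6 :: [3, 13, 10], [], 17, false⟩) (lall (memL L) [3, 13, 10]) = true := by decide +kernel

theorem rot6_8 : T.rot 6 [4, 6, 4] (sel (ones 819) ip6 8) = true := by decide +kernel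

theorem rot6_8r : band (Rule.ok (2 * 0) EX RL ⟨6 :: [4, 6, 4], [10], 18, true⟩) (lall (memL L) [4, 6, 4]) = true := by decide +kernel

theorem rot6_9 : T.rot 6 [14, 13, 13, 7] (sel (ones 819) ip6 9) = true := by decide +kernel

theorem rot6_9r : band (Rule.ok (2 * 0) EX RL ⟨6 :: [14, 13, 13, 7], [13, 10], 26, true⟩) (lall (memL L) [14, 13, 13, 7]) = true := by decide +kernel

theorem rot6_10 : T.rot 6 [6, 7, 13, 14] (sel (ones 819) ip6 10) = true := by decide +kernel

theorem rot6_10r : band (Rule.ok (2 * 0) EX RL ⟨6 :: [6, 7, 13, 14], [10, 10], 26, false⟩) (lall (memL L) [6, 7, 13, 14]) = true := by decide +kernel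

theorem rot6_11 : T.rot 6 [7, 13, 14, 6] (sel (ones 819) ip6 11) = true := by decide +kernel

theorem rot6_11r : band (Rule.ok (2 * 0) EX RL ⟨6 :: [7, 13, 14, 6], [10], 26, false⟩) (lall (memL L) [7, 13, 14, 6]) = true := by decide +kernel

theorem rot6_12 : T.rot 6 [6, 6, 6, 6, 6, 6] (sel (ones 819) ip6 12) = true := by decide +kernel

theorem rot6_12r : band (Rule.ok (2 * 0) EX RL ⟨6 :: [6, 6, 6, 6, 6, 6], [], 14, true⟩) (lall (memL L) [6, 6, 6, 6, 6, 6]) = true := by decide +kernel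

theorem rot6_13 : T.rot 6 [6, 6, 12, 13, 13, 5, 13, 12] (sel (ones 819) ip6 13) = true := by decide +kernel

theorem rot6_13r : band (Rule.ok (2 * 0) EX RL ⟨6 :: [6, 6, 12, 13, 13, 5, 13, 12], [], 19, true⟩) (lall (memL L) [6, 6, 12, 13, 13, 5, 13, 12]) = true := by decide +kernel

theorem rot6_14 : T.rot 6 [6, 12, 13, 13, 5, 13, 12, 6] (sel (ones 819) ip6 14) = true := by decide +kernel

theorem rot6_14r : band (Rule.ok (2 * 0) EX RL ⟨6 :: [6, 12, 13, 13, 5, 13, 12, 6], [11], 19, true⟩) (lall (memL L) [6, 12, 13, 13, 5, 13, 12, 6]) = true := by decide +kernel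

theorem rot6_15 : T.rot 6 [12, 13, 13, 5, 13, 12, 6, 6] (sel (ones 819) ip6 15) = true := by decide +kernel

theorem rot6_15r : band (Rule.ok (2 * 0) EX RL ⟨6 :: [12, 13, 13, 5, 13, 12, 6, 6], [11, 11], 19, true⟩) (lall (memL L) [12, 13, 13, 5, 13, 12, 6, 6]) = true := by decide +kernel

theorem rot6_16 : T.rot 6 [12, 6, 6, 5, 13, 13, 13, 5] (sel (ones 819) ip6 16) = true := by decide +kernel

theorem rot6_16r : band (Rule.ok (2 * 0) EX RL ⟨6 :: [12, 6, 6, 5, 13, 13, 13, 5], [9], 19, false⟩) (lall (memL L) [12, 6, 6, 5, 13, 13, 13, 5]) = true := by decide +kernel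

theorem rot6_17 : T.rot 6 [6, 5, 13, 13, 13, 5, 6, 12] (sel (ones 819) ip6 17) = true := by decide +kernel

theorem rot6_17r : band (Rule.ok (2 * 0) EX RL ⟨6 :: [6, 5, 13, 13, 13, 5, 6, 12], [9, 11, 8], 19, false⟩) (lall (memL L) [6, 5, 13, 13, 13, 5, 6, 12]) = true := by decide +kernel

theorem rot6_18 : T.rot 6 [5, 13, 13, 13, 5, 6, 12, 6] (sel (ones 819) ip6 18) = true := by decide +kernel

theorem rot6_18r : band (Rule.ok (2 * 0) EX RL ⟨6 :: [5, 13, 13, 13, 5, 6, 12, 6], [9, 11, 8, 11], 19, false⟩) (lall (memL L) [5, 13, 13, 13, 5, 6, 12, 6]) = true := by decide +kernel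

theorem cov6 : T.cover 6 [(sel (ones 819) ip6 1), (sel (ones 819) ip6 2), (sel (ones 819) ip6 3), (sel (ones 819) ip6 4), (sel (ones 819) ip6 5), (sel (ones 819) ip6 6), (sel (ones 819) ip6 7), (sel (ones 819) ip6 8), (sel (ones 819) ip6 9), (sel (ones 819) ip6 10), (sel (ones 819) ip6 11), (sel (ones 819) ip6 12), (sel (ones 819) ip6 13), (sel (ones 819) ip6 14), (sel (ones 819) ip6 15), (sel (ones 819) ip6 16), (sel (ones 819) ip6 17), (sel (ones 819) ip6 18), 1] = true := by decide +kernel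

theorem tl6 : T.treeLt 10 6 = true := by decide +kernel

theorem rot7_1 : T.rot 7 [14] (sel (ones 819) ip7 1) = true := by decide +kernel

theorem rot7_1r : band (Rule.ok (2 * 0) EX RL ⟨7 :: [14], [], 27, false⟩) (lall (memL L) [14]) = true := by decide +kernel

theorem rot7_2 : T.rot 7 [7, 7] (sel (ones 819) ip7 2) = true := by decide +kernel

theorem rot7_2r : band (Rule.ok (2 * 0) EX RL ⟨7 :: [7, 7], [], 20, true⟩) (lall (memL L) [7, 7]) = true := by decide +kernel

theorem rot7_3 : T.rot 7 [8, 14, 1] (sel (ones 819) ip7 3) = true := by decide +kernel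

theorem rot7_3r : band (Rule.ok (2 * 0) EX RL ⟨7 :: [8, 14, 1], [1], 21, true⟩) (lall (memL L) [8, 14, 1]) = true := by decide +kernel

theorem rot7_4 : T.rot 7 [1, 14, 8] (sel (ones 819) ip7 4) = true := by decide +kernel

theorem rot7_4r : band (Rule.ok (2 * 0) EX RL ⟨7 :: [1, 14, 8], [], 21, false⟩) (lall (memL L) [1, 14, 8]) = true := by decide +kernel

theorem rot7_5 : T.rot 7 [9, 14, 2] (sel (ones 819) ip7 5) = true := by decide +kernel

theorem rot7_5r : band (Rule.ok (2 * 0) EX RL ⟨7 :: [9, 14, 2], [3], 22, true⟩) (lall (memL L) [9, 14, 2]) = true := by decide +kernel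

theorem rot7_6 : T.rot 7 [2, 14, 9] (sel (ones 819) ip7 6) = true := by decide +kernel

theorem rot7_6r : band (Rule.ok (2 * 0) EX RL ⟨7 :: [2, 14, 9], [], 22, false⟩) (lall (memL L) [2, 14, 9]) = true := by decide +kernel

theorem rot7_7 : T.rot 7 [10, 14, 3] (sel (ones 819) ip7 7) = true := by decide +kernel

theorem rot7_7r : band (Rule.ok (2 * 0) EX RL ⟨7 :: [10, 14, 3], [5], 23, true⟩) (lall (memL L) [10, 14, 3]) = true := by decide +kernel

theorem rot7_8 : T.rot 7 [3, 14, 10] (sel (ones 819) ip7 8) = true := by decide +kernel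

theorem rot7_8r : band (Rule.ok (2 * 0) EX RL ⟨7 :: [3, 14, 10], [], 23, false⟩) (lall (memL L) [3, 14, 10]) = true := by decide +kernel

theorem rot7_9 : T.rot 7 [11, 14, 4] (sel (ones 819) ip7 9) = true := by decide +kernel

theorem rot7_9r : band (Rule.ok (2 * 0) EX RL ⟨7 :: [11, 14, 4], [7], 24, true⟩) (lall (memL L) [11, 14, 4]) = true := by decide +kernel

theorem rot7_10 : T.rot 7 [4, 14, 11] (sel (ones 819) ip7 10) = true := by decide +kernel

theorem rot7_10r : band (Rule.ok (2 * 0) EX RL ⟨7 :: [4, 14, 11], [], 24, false⟩) (lall (memL L) [4, 14, 11]) = true := by decide +kernel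

theorem rot7_11 : T.rot 7 [12, 14, 5] (sel (ones 819) ip7 11) = true := by decide +kernel

theorem rot7_11r : band (Rule.ok (2 * 0) EX RL ⟨7 :: [12, 14, 5], [9], 25, true⟩) (lall (memL L) [12, 14, 5]) = true := by decide +kernel

theorem rot7_12 : T.rot 7 [5, 14, 12] (sel (ones 819) ip7 12) = true := by decide +kernel

theorem rot7_12r : band (Rule.ok (2 * 0) EX RL ⟨7 :: [5, 14, 12], [], 25, false⟩) (lall (memL L) [5, 14, 12]) = true := by decide +kernel

theorem rot7_13 : T.rot 7 [6, 14, 13, 13] (sel (ones 819) ip7 13) = true := by decide +kernel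

theorem rot7_13r : band (Rule.ok (2 * 0) EX RL ⟨7 :: [6, 14, 13, 13], [10, 10], 26, true⟩) (lall (memL L) [6, 14, 13, 13]) = true := by decide +kernel

theorem rot7_14 : T.rot 7 [13, 14, 6, 6] (sel (ones 819) ip7 14) = true := by decide +kernel

theorem rot7_14r : band (Rule.ok (2 * 0) EX RL ⟨7 :: [13, 14, 6, 6], [], 26, false⟩) (lall (memL L) [13, 14, 6, 6]) = true := by decide +kernel

theorem cov7 : T.cover 7 [(sel (ones 819) ip7 1), (sel (ones 819) ip7 2), (sel (ones 819) ip7 3), (sel (ones 819) ip7 4), (sel (ones 819) ip7 5), (sel (ones 819) ip7 6), (sel (ones 819) ip7 7), (sel (ones 819) ip7 8), (sel (ones 819) ip7 9), (sel (ones 819) ip7 10), (sel (ones 819) ip7 11), (sel (ones 819) ip7 12), (sel (ones 819) ip7 13), (sel (ones 819) ip7 14), 1] = true := by decide +kernel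

theorem tl7 : T.treeLt 10 7 = true := by decide +kernel

theorem rot8_1 : T.rot 8 [1] (sel (ones 819) ip8 1) = true := by decide +kernel

theorem rot8_1r : band (Rule.ok (2 * 0) EX RL ⟨8 :: [1], [], 27, false⟩) (lall (memL L) [1]) = true := by decide +kernel

theorem rot8_2 : T.rot 8 [8] (sel (ones 819) ip8 2) = true := by decide +kernel

theorem rot8_2r : band (Rule.ok (2 * 0) EX RL ⟨8 :: [8], [], 0, false⟩) (lall (memL L) [8]) = true := by decide +kernel

theorem rot8_3 : T.rot 8 [12, 8, 12] (sel (ones 819) ip8 3) = true := by decide +kernel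

theorem rot8_3r : band (Rule.ok (2 * 0) EX RL ⟨8 :: [12, 8, 12], [], 6, false⟩) (lall (memL L) [12, 8, 12]) = true := by decide +kernel

theorem rot8_4 : T.rot 8 [13, 1, 6] (sel (ones 819) ip8 4) = true := by decide +kernel

theorem rot8_4r : band (Rule.ok (2 * 0) EX RL ⟨8 :: [13, 1, 6], [11, 1], 15, true⟩) (lall (memL L) [13, 1, 6]) = true := by decide +kernel

theorem rot8_5 : T.rot 8 [6, 1, 13] (sel (ones 819) ip8 5) = true := by decide +kernel

theorem rot8_5r : band (Rule.ok (2 * 0) EX RL ⟨8 :: [6, 1, 13], [1], 15, false⟩) (lall (memL L) [6, 1, 13]) = true := by decide +kernel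

theorem rot8_6 : T.rot 8 [14, 1, 7] (sel (ones 819) ip8 6) = true := by decide +kernel

theorem rot8_6r : band (Rule.ok (2 * 0) EX RL ⟨8 :: [14, 1, 7], [13, 1], 21, true⟩) (lall (memL L) [14, 1, 7]) = true := by decide +kernel

theorem rot8_7 : T.rot 8 [7, 1, 14] (sel (ones 819) ip8 7) = true := by decide +kernel

theorem rot8_7r : band (Rule.ok (2 * 0) EX RL ⟨8 :: [7, 1, 14], [1], 21, false⟩) (lall (memL L) [7, 1, 14]) = true := by decide +kernel

theorem rot8_8 : T.rot 8 [9, 8, 9, 8, 9] (sel (ones 819) ip8 8) = true := by decide +kernel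

theorem rot8_8r : band (Rule.ok (2 * 0) EX RL ⟨8 :: [9, 8, 9, 8, 9], [], 5, false⟩) (lall (memL L) [9, 8, 9, 8, 9]) = true := by decide +kernel

theorem rot8_9 : T.rot 8 [4, 3, 4, 3, 4, 3, 4, 3] (sel (ones 819) ip8 9) = true := by decide +kernel

theorem rot8_9r : band (Rule.ok (2 * 0) EX RL ⟨8 :: [4, 3, 4, 3, 4, 3, 4, 3], [], 10, false⟩) (lall (memL L) [4, 3, 4, 3, 4, 3, 4, 3]) = true := by decide +kernel

theorem cov8 : T.cover 8 [(sel (ones 819) ip8 1), (sel (ones 819) ip8 2), (sel (ones 819) ip8 3), (sel (ones 819) ip8 4), (sel (ones 819) ip8 5), (sel (ones 819) ip8 6), (sel (ones 819) ip8 7), (sel (ones 819) ip8 8), (sel (ones 819) ip8 9)] = true := by decide +kernel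

theorem tl8 : Nat.beq (T.let 8).tt 0 = true := by decide +kernel

theorem rot9_1 : T.rot 9 [2] (sel (ones 819) ip9 1) = true := by decide +kernel

theorem rot9_1r : band (Rule.ok (2 * 0) EX RL ⟨9 :: [2], [], 27, false⟩) (lall (memL L) [2]) = true := by decide +kernel

theorem rot9_2 : T.rot 9 [9] (sel (ones 819) ip9 2) = true := by decide +kernel

theorem rot9_2r : band (Rule.ok (2 * 0) EX RL ⟨9 :: [9], [], 1, false⟩) (lall (memL L) [9]) = true := by decide +kernel

theorem rot9_3 : T.rot 9 [11, 9, 11] (sel (ones 819) ip9 3) = true := by decide +kernel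

theorem rot9_3r : band (Rule.ok (2 * 0) EX RL ⟨9 :: [11, 9, 11], [], 8, false⟩) (lall (memL L) [11, 9, 11]) = true := by decide +kernel

theorem rot9_4 : T.rot 9 [12, 9, 12] (sel (ones 819) ip9 4) = true := by decide +kernel

theorem rot9_4r : band (Rule.ok (2 * 0) EX RL ⟨9 :: [12, 9, 12], [], 9, false⟩) (lall (memL L) [12, 9, 12]) = true := by decide +kernel

theorem rot9_5 : T.rot 9 [13, 2, 6] (sel (ones 819) ip9 5) = true := by decide +kernel

theorem rot9_5r : band (Rule.ok (2 * 0) EX RL ⟨9 :: [13, 2, 6], [11, 3], 16, true⟩) (lall (memL L) [13, 2, 6]) = true := by decide +kernel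

theorem rot9_6 : T.rot 9 [6, 2, 13] (sel (ones 819) ip9 6) = true := by decide +kernel

theorem rot9_6r : band (Rule.ok (2 * 0) EX RL ⟨9 :: [6, 2, 13], [3], 16, false⟩) (lall (memL L) [6, 2, 13]) = true := by decide +kernel

theorem rot9_7 : T.rot 9 [14, 2, 7] (sel (ones 819) ip9 7) = true := by decide +kernel

theorem rot9_7r : band (Rule.ok (2 * 0) EX RL ⟨9 :: [14, 2, 7], [13, 3], 22, true⟩) (lall (memL L) [14, 2, 7]) = true := by decide +kernel

theorem rot9_8 : T.rot 9 [7, 2, 14] (sel (ones 819) ip9 8) = true := by decide +kernel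

theorem rot9_8r : band (Rule.ok (2 * 0) EX RL ⟨9 :: [7, 2, 14], [3], 22, false⟩) (lall (memL L) [7, 2, 14]) = true := by decide +kernel

theorem rot9_9 : T.rot 9 [8, 9, 8, 9, 8] (sel (ones 819) ip9 9) = true := by decide +kernel

theorem rot9_9r : band (Rule.ok (2 * 0) EX RL ⟨9 :: [8, 9, 8, 9, 8], [3], 5, false⟩) (lall (memL L) [8, 9, 8, 9, 8]) = true := by decide +kernel

theorem rot9_10 : T.rot 9 [10, 9, 10, 9, 10] (sel (ones 819) ip9 10) = true := by decide +kernel

theorem rot9_10r : band (Rule.ok (2 * 0) EX RL ⟨9 :: [10, 9, 10, 9, 10], [], 7, false⟩) (lall (memL L) [10, 9, 10, 9, 10]) = true := by decide +kernel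

theorem rot9_11 : T.rot 9 [10, 11, 12, 9, 10, 11, 12, 9, 10, 11, 12, 9, 10, 11, 12, 9, 10, 11, 12, 9, 10, 11, 12, 9, 10, 11, 12, 9, 10, 11, 12] (sel (ones 819) ip9 11) = true := by decide +kernel

theorem rot9_11r : band (Rule.ok (2 * 0) EX RL ⟨9 :: [10, 11, 12, 9, 10, 11, 12, 9, 10, 11, 12, 9, 10, 11, 12, 9, 10, 11, 12, 9, 10, 11, 12, 9, 10, 11, 12, 9, 10, 11, 12], [], 13, false⟩) (lall (memL L) [10, 11, 12, 9, 10, 11, 12, 9, 10, 11, 12, 9, 10, 11, 12, 9, 10, 11, 12, 9, 10, 11, 12, 9, 10, 11, 12, 9, 10, 11, 12]) = true := by decide +kernel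

theorem cov9 : T.cover 9 [(sel (ones 819) ip9 1), (sel (ones 819) ip9 2), (sel (ones 819) ip9 3), (sel (ones 819) ip9 4), (sel (ones 819) ip9 5), (sel (ones 819) ip9 6), (sel (ones 819) ip9 7), (sel (ones 819) ip9 8), (sel (ones 819) ip9 9), (sel (ones 819) ip9 10), (sel (ones 819) ip9 11)] = true := by decide +kernel

theorem tl9 : Nat.beq (T.let 9).tt 0 = true := by decide +kernel

theorem rot10_1 : T.rot 10 [3] (sel (ones 819) ip10 1) = true := by decide +kernel

theorem rot10_1r : band (Rule.ok (2 * 0) EX RL ⟨10 :: [3], [], 27, false⟩) (lall (memL L) [3]) = true := by decide +kernel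

theorem rot10_2 : T.rot 10 [10] (sel (ones 819) ip10 2) = true := by decide +kernel

theorem rot10_2r : band (Rule.ok (2 * 0) EX RL ⟨10 :: [10], [], 2, false⟩) (lall (memL L) [10]) = true := by decide +kernel

theorem rot10_3 : T.rot 10 [12, 10, 12] (sel (ones 819) ip10 3) = true := by decide +kernel

theorem rot10_3r : band (Rule.ok (2 * 0) EX RL ⟨10 :: [12, 10, 12], [], 11, false⟩) (lall (memL L) [12, 10, 12]) = true := by decide +kernel

theorem rot10_4 : T.rot 10 [13, 3, 6] (sel (ones 819) ip10 4) = true := by decide +kernel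

theorem rot10_4r : band (Rule.ok (2 * 0) EX RL ⟨10 :: [13, 3, 6], [11, 5], 17, true⟩) (lall (memL L) [13, 3, 6]) = true := by decide +kernel

theorem rot10_5 : T.rot 10 [6, 3, 13] (sel (ones 819) ip10 5) = true := by decide +kernel

theorem rot10_5r : band (Rule.ok (2 * 0) EX RL ⟨10 :: [6, 3, 13], [5], 17, false⟩) (lall (memL L) [6, 3, 13]) = true := by decide +kernel

theorem rot10_6 : T.rot 10 [14, 3, 7] (sel (ones 819) ip10 6) = true := by decide +kernel

theorem rot10_6r : band (Rule.ok (2 * 0) EX RL ⟨10 :: [14, 3, 7], [13, 5], 23, true⟩) (lall (memL L) [14, 3, 7]) = true := by decide +kernel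

theorem rot10_7 : T.rot 10 [7, 3, 14] (sel (ones 819) ip10 7) = true := by decide +kernel

theorem rot10_7r : band (Rule.ok (2 * 0) EX RL ⟨10 :: [7, 3, 14], [5], 23, false⟩) (lall (memL L) [7, 3, 14]) = true := by decide +kernel

theorem rot10_8 : T.rot 10 [9, 10, 9, 10, 9] (sel (ones 819) ip10 8) = true := by decide +kernel

theorem rot10_8r : band (Rule.ok (2 * 0) EX RL ⟨10 :: [9, 10, 9, 10, 9], [5], 7, false⟩) (lall (memL L) [9, 10, 9, 10, 9]) = true := by decide +kernel

theorem rot10_9 : T.rot 10 [11, 10, 11, 10, 11, 10, 11, 1] (sel (ones 819) ip10 9) = true := by decide +kernel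

theorem rot10_9r : band (Rule.ok (2 * 0) EX RL ⟨10 :: [11, 10, 11, 10, 11, 10, 11, 1], [], 10, true⟩) (lall (memL L) [11, 10, 11, 10, 11, 10, 11, 1]) = true := by decide +kernel

theorem rot10_10 : T.rot 10 [11, 10, 11, 10, 11, 1, 10, 11] (sel (ones 819) ip10 10) = true := by decide +kernel

theorem rot10_10r : band (Rule.ok (2 * 0) EX RL ⟨10 :: [11, 10, 11, 10, 11, 1, 10, 11], [4, 6], 10, true⟩) (lall (memL L) [11, 10, 11, 10, 11, 1, 10, 11]) = true := by decide +kernel

theorem rot10_11 : T.rot 10 [11, 10, 11, 1, 10, 11, 10, 11] (sel (ones 819) ip10 11) = true := by decide +kernel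

theorem rot10_11r : band (Rule.ok (2 * 0) EX RL ⟨10 :: [11, 10, 11, 1, 10, 11, 10, 11], [4, 6, 4, 6], 10, true⟩) (lall (memL L) [11, 10, 11, 1, 10, 11, 10, 11]) = true := by decide +kernel

theorem rot10_12 : T.rot 10 [11, 1, 10, 11, 10, 11, 10, 11] (sel (ones 819) ip10 12) = true := by decide +kernel

theorem rot10_12r : band (Rule.ok (2 * 0) EX RL ⟨10 :: [11, 1, 10, 11, 10, 11, 10, 11], [0, 7, 5], 10, true⟩) (lall (memL L) [11, 1, 10, 11, 10, 11, 10, 11]) = true := by decide +kernel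

theorem rot10_13 : T.rot 10 [11, 12, 9, 10, 11, 12, 9, 10, 11, 12, 9, 10, 11, 12, 9, 10, 11, 12, 9, 10, 11, 12, 9, 10, 11, 12, 9, 10, 11, 12, 9] (sel (ones 819) ip10 13) = true := by decide +kernel

theorem rot10_13r : band (Rule.ok (2 * 0) EX RL ⟨10 :: [11, 12, 9, 10, 11, 12, 9, 10, 11, 12, 9, 10, 11, 12, 9, 10, 11, 12, 9, 10, 11, 12, 9, 10, 11, 12, 9, 10, 11, 12, 9], [2], 13, false⟩) (lall (memL L) [11, 12, 9, 10, 11, 12, 9, 10, 11, 12, 9, 10, 11, 12, 9, 10, 11, 12, 9, 10, 11, 12, 9, 10, 11, 12, 9, 10, 11, 12, 9]) = true := by decide +kernel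

theorem cov10 : T.cover 10 [(sel (ones 819) ip10 1), (sel (ones 819) ip10 2), (sel (ones 819) ip10 3), (sel (ones 819) ip10 4), (sel (ones 819) ip10 5), (sel (ones 819) ip10 6), (sel (ones 819) ip10 7), (sel (ones 819) ip10 8), (sel (ones 819) ip10 9), (sel (ones 819) ip10 10), (sel (ones 819) ip10 11), (sel (ones 819) ip10 12), (sel (ones 819) ip10 13)] = true := by decide +kernel

theorem tl10 : Nat.beq (T.let 10).tt 0 = true := by decide +kernel

theorem rot11_1 : T.rot 11 [4] (sel (ones 819) ip11 1) = true := by decide +kernel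

theorem rot11_1r : band (Rule.ok (2 * 0) EX RL ⟨11 :: [4], [], 27, false⟩) (lall (memL L) [4]) = true := by decide +kernel

theorem rot11_2 : T.rot 11 [11] (sel (ones 819) ip11 2) = true := by decide +kernel

theorem rot11_2r : band (Rule.ok (2 * 0) EX RL ⟨11 :: [11], [], 3, false⟩) (lall (memL L) [11]) = true := by decide +kernel

theorem rot11_3 : T.rot 11 [9, 11, 9] (sel (ones 819) ip11 3) = true := by decide +kernel

theorem rot11_3r : band (Rule.ok (2 * 0) EX RL ⟨11 :: [9, 11, 9], [7], 8, false⟩) (lall (memL L) [9, 11, 9]) = true := by decide +kernel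

theorem rot11_4 : T.rot 11 [13, 11, 13] (sel (ones 819) ip11 4) = true := by decide +kernel

theorem rot11_4r : band (Rule.ok (2 * 0) EX RL ⟨11 :: [13, 11, 13], [7], 18, false⟩) (lall (memL L) [13, 11, 13]) = true := by decide +kernel

theorem rot11_5 : T.rot 11 [14, 4, 7] (sel (ones 819) ip11 5) = true := by decide +kernel

theorem rot11_5r : band (Rule.ok (2 * 0) EX RL ⟨11 :: [14, 4, 7], [13, 7], 24, true⟩) (lall (memL L) [14, 4, 7]) = true := by decide +kernel

theorem rot11_6 : T.rot 11 [7, 4, 14] (sel (ones 819) ip11 6) = true := by decide +kernel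

theorem rot11_6r : band (Rule.ok (2 * 0) EX RL ⟨11 :: [7, 4, 14], [7], 24, false⟩) (lall (memL L) [7, 4, 14]) = true := by decide +kernel

theorem rot11_7 : T.rot 11 [12, 11, 12, 11, 12] (sel (ones 819) ip11 7) = true := by decide +kernel

theorem rot11_7r : band (Rule.ok (2 * 0) EX RL ⟨11 :: [12, 11, 12, 11, 12], [], 12, false⟩) (lall (memL L) [12, 11, 12, 11, 12]) = true := by decide +kernel

theorem rot11_8 : T.rot 11 [10, 11, 10, 11, 10, 11, 1, 10] (sel (ones 819) ip11 8) = true := by decide +kernel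

theorem rot11_8r : band (Rule.ok (2 * 0) EX RL ⟨11 :: [10, 11, 10, 11, 10, 11, 1, 10], [4], 10, true⟩) (lall (memL L) [10, 11, 10, 11, 10, 11, 1, 10]) = true := by decide +kernel

theorem rot11_9 : T.rot 11 [10, 11, 10, 11, 1, 10, 11, 10] (sel (ones 819) ip11 9) = true := by decide +kernel

theorem rot11_9r : band (Rule.ok (2 * 0) EX RL ⟨11 :: [10, 11, 10, 11, 1, 10, 11, 10], [4, 6, 4], 10, true⟩) (lall (memL L) [10, 11, 10, 11, 1, 10, 11, 10]) = true := by decide +kernel

theorem rot11_10 : T.rot 11 [10, 11, 1, 10, 11, 10, 11, 10] (sel (ones 819) ip11 10) = true := by decide +kernel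

theorem rot11_10r : band (Rule.ok (2 * 0) EX RL ⟨11 :: [10, 11, 1, 10, 11, 10, 11, 10], [0, 7, 5, 7], 10, true⟩) (lall (memL L) [10, 11, 1, 10, 11, 10, 11, 10]) = true := by decide +kernel

theorem rot11_11 : T.rot 11 [1, 10, 11, 10, 11, 10, 11, 10] (sel (ones 819) ip11 11) = true := by decide +kernel

theorem rot11_11r : band (Rule.ok (2 * 0) EX RL ⟨11 :: [1, 10, 11, 10, 11, 10, 11, 10], [0, 7], 10, true⟩) (lall (memL L) [1, 10, 11, 10, 11, 10, 11, 10]) = true := by decide +kernel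

theorem rot11_12 : T.rot 11 [12, 9, 10, 11, 12, 9, 10, 11, 12, 9, 10, 11, 12, 9, 10, 11, 12, 9, 10, 11, 12, 9, 10, 11, 12, 9, 10, 11, 12, 9, 10] (sel (ones 819) ip11 12) = true := by decide +kernel

theorem rot11_12r : band (Rule.ok (2 * 0) EX RL ⟨11 :: [12, 9, 10, 11, 12, 9, 10, 11, 12, 9, 10, 11, 12, 9, 10, 11, 12, 9, 10, 11, 12, 9, 10, 11, 12, 9, 10, 11, 12, 9, 10], [9, 7], 13, false⟩) (lall (memL L) [12, 9, 10, 11, 12, 9, 10, 11, 12, 9, 10, 11, 12, 9, 10, 11, 12, 9, 10, 11, 12, 9, 10, 11, 12, 9, 10, 11, 12, 9, 10]) = true := by decide +kernel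

theorem cov11 : T.cover 11 [(sel (ones 819) ip11 1), (sel (ones 819) ip11 2), (sel (ones 819) ip11 3), (sel (ones 819) ip11 4), (sel (ones 819) ip11 5), (sel (ones 819) ip11 6), (sel (ones 819) ip11 7), (sel (ones 819) ip11 8), (sel (ones 819) ip11 9), (sel (ones 819) ip11 10), (sel (ones 819) ip11 11), (sel (ones 819) ip11 12)] = true := by decide +kernel

theorem tl11 : Nat.beq (T.let 11).tt 0 = true := by decide +kernel

theorem rot12_1 : T.rot 12 [5] (sel (ones 819) ip12 1) = true := by decide +kernel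

theorem rot12_1r : band (Rule.ok (2 * 0) EX RL ⟨12 :: [5], [], 27, false⟩) (lall (memL L) [5]) = true := by decide +kernel

theorem rot12_2 : T.rot 12 [12] (sel (ones 819) ip12 2) = true := by decide +kernel

theorem rot12_2r : band (Rule.ok (2 * 0) EX RL ⟨12 :: [12], [], 4, false⟩) (lall (memL L) [12]) = true := by decide +kernel

theorem rot12_3 : T.rot 12 [8, 12, 8] (sel (ones 819) ip12 3) = true := by decide +kernel

theorem rot12_3r : band (Rule.ok (2 * 0) EX RL ⟨12 :: [8, 12, 8], [9], 6, false⟩) (lall (memL L) [8, 12, 8]) = true := by decide +kernel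

theorem rot12_4 : T.rot 12 [9, 12, 9] (sel (ones 819) ip12 4) = true := by decide +kernel

theorem rot12_4r : band (Rule.ok (2 * 0) EX RL ⟨12 :: [9, 12, 9], [9], 9, false⟩) (lall (memL L) [9, 12, 9]) = true := by decide +kernel

theorem rot12_5 : T.rot 12 [10, 12, 10] (sel (ones 819) ip12 5) = true := by decide +kernel

theorem rot12_5r : band (Rule.ok (2 * 0) EX RL ⟨12 :: [10, 12, 10], [9], 11, false⟩) (lall (memL L) [10, 12, 10]) = true := by decide +kernel

theorem rot12_6 : T.rot 12 [14, 5, 7] (sel (ones 819) ip12 6) = true := by decide +kernel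

theorem rot12_6r : band (Rule.ok (2 * 0) EX RL ⟨12 :: [14, 5, 7], [13, 9], 25, true⟩) (lall (memL L) [14, 5, 7]) = true := by decide +kernel

theorem rot12_7 : T.rot 12 [7, 5, 14] (sel (ones 819) ip12 7) = true := by decide +kernel

theorem rot12_7r : band (Rule.ok (2 * 0) EX RL ⟨12 :: [7, 5, 14], [9], 25, false⟩) (lall (memL L) [7, 5, 14]) = true := by decide +kernel

theorem rot12_8 : T.rot 12 [11, 12, 11, 12, 11] (sel (ones 819) ip12 8) = true := by decide +kernel

theorem rot12_8r : band (Rule.ok (2 * 0) EX RL ⟨12 :: [11, 12, 11, 12, 11], [9], 12, false⟩) (lall (memL L) [11, 12, 11, 12, 11]) = true := by decide +kernel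

theorem rot12_9 : T.rot 12 [13, 13, 5, 13, 12, 6, 6, 6] (sel (ones 819) ip12 9) = true := by decide +kernel

theorem rot12_9r : band (Rule.ok (2 * 0) EX RL ⟨12 :: [13, 13, 5, 13, 12, 6, 6, 6], [11, 11, 11], 19, true⟩) (lall (memL L) [13, 13, 5, 13, 12, 6, 6, 6]) = true := by decide +kernel

theorem rot12_10 : T.rot 12 [6, 6, 6, 12, 13, 13, 5, 13] (sel (ones 819) ip12 10) = true := by decide +kernel

theorem rot12_10r : band (Rule.ok (2 * 0) EX RL ⟨12 :: [6, 6, 6, 12, 13, 13, 5, 13], [9], 19, true⟩) (lall (memL L) [6, 6, 6, 12, 13, 13, 5, 13]) = true := by decide +kernel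

theorem rot12_11 : T.rot 12 [6, 6, 5, 13, 13, 13, 5, 6] (sel (ones 819) ip12 11) = true := by decide +kernel

theorem rot12_11r : band (Rule.ok (2 * 0) EX RL ⟨12 :: [6, 6, 5, 13, 13, 13, 5, 6], [9, 11], 19, false⟩) (lall (memL L) [6, 6, 5, 13, 13, 13, 5, 6]) = true := by decide +kernel

theorem rot12_12 : T.rot 12 [9, 10, 11, 12, 9, 10, 11, 12, 9, 10, 11, 12, 9, 10, 11, 12, 9, 10, 11, 12, 9, 10, 11, 12, 9, 10, 11, 12, 9, 10, 11] (sel (ones 819) ip12 12) = true := by decide +kernel

theorem rot12_12r : band (Rule.ok (2 * 0) EX RL ⟨12 :: [9, 10, 11, 12, 9, 10, 11, 12, 9, 10, 11, 12, 9, 10, 11, 12, 9, 10, 11, 12, 9, 10, 11, 12, 9, 10, 11, 12, 9, 10, 11], [9], 13, false⟩) (lall (memL L) [9, 10, 11, 12, 9, 10, 11, 12, 9, 10, 11, 12, 9, 10, 11, 12, 9, 10, 11, 12, 9, 10, 11, 12, 9, 10, 11, 12, 9, 10, 11]) = true := by decide +kernel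

theorem cov12 : T.cover 12 [(sel (ones 819) ip12 1), (sel (ones 819) ip12 2), (sel (ones 819) ip12 3), (sel (ones 819) ip12 4), (sel (ones 819) ip12 5), (sel (ones 819) ip12 6), (sel (ones 819) ip12 7), (sel (ones 819) ip12 8), (sel (ones 819) ip12 9), (sel (ones 819) ip12 10), (sel (ones 819) ip12 11), (sel (ones 819) ip12 12)] = true := by decide +kernel

theorem tl12 : Nat.beq (T.let 12).tt 0 = true := by decide +kernel

theorem rot13_1 : T.rot 13 [6] (sel (ones 819) ip13 1) = true := by decide +kernel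

theorem rot13_1r : band (Rule.ok (2 * 0) EX RL ⟨13 :: [6], [], 27, false⟩) (lall (memL L) [6]) = true := by decide +kernel

theorem rot13_2 : T.rot 13 [1, 6, 8] (sel (ones 819) ip13 2) = true := by decide +kernel

theorem rot13_2r : band (Rule.ok (2 * 0) EX RL ⟨13 :: [1, 6, 8], [11], 15, true⟩) (lall (memL L) [1, 6, 8]) = true := by decide +kernel

theorem rot13_3 : T.rot 13 [8, 6, 1] (sel (ones 819) ip13 3) = true := by decide +kernel

theorem rot13_3r : band (Rule.ok (2 * 0) EX RL ⟨13 :: [8, 6, 1], [1, 11], 15, false⟩) (lall (memL L) [8, 6, 1]) = true := by decide +kernel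

theorem rot13_4 : T.rot 13 [2, 6, 9] (sel (ones 819) ip13 4) = true := by decide +kernel

theorem rot13_4r : band (Rule.ok (2 * 0) EX RL ⟨13 :: [2, 6, 9], [11], 16, true⟩) (lall (memL L) [2, 6, 9]) = true := by decide +kernel

theorem rot13_5 : T.rot 13 [9, 6, 2] (sel (ones 819) ip13 5) = true := by decide +kernel

theorem rot13_5r : band (Rule.ok (2 * 0) EX RL ⟨13 :: [9, 6, 2], [3, 11], 16, false⟩) (lall (memL L) [9, 6, 2]) = true := by decide +kernel

theorem rot13_6 : T.rot 13 [3, 6, 10] (sel (ones 819) ip13 6) = true := by decide +kernel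

theorem rot13_6r : band (Rule.ok (2 * 0) EX RL ⟨13 :: [3, 6, 10], [11], 17, true⟩) (lall (memL L) [3, 6, 10]) = true := by decide +kernel

theorem rot13_7 : T.rot 13 [10, 6, 3] (sel (ones 819) ip13 7) = true := by decide +kernel

theorem rot13_7r : band (Rule.ok (2 * 0) EX RL ⟨13 :: [10, 6, 3], [5, 11], 17, false⟩) (lall (memL L) [10, 6, 3]) = true := by decide +kernel

theorem rot13_8 : T.rot 13 [11, 13, 11] (sel (ones 819) ip13 8) = true := by decide +kernel

theorem rot13_8r : band (Rule.ok (2 * 0) EX RL ⟨13 :: [11, 13, 11], [], 18, false⟩) (lall (memL L) [11, 13, 11]) = true := by decide +kernel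

theorem rot13_9 : T.rot 13 [13, 7, 6, 14] (sel (ones 819) ip13 9) = true := by decide +kernel

theorem rot13_9r : band (Rule.ok (2 * 0) EX RL ⟨13 :: [13, 7, 6, 14], [], 26, true⟩) (lall (memL L) [13, 7, 6, 14]) = true := by decide +kernel

theorem rot13_10 : T.rot 13 [7, 6, 14, 13] (sel (ones 819) ip13 10) = true := by decide +kernel

theorem rot13_10r : band (Rule.ok (2 * 0) EX RL ⟨13 :: [7, 6, 14, 13], [10], 26, true⟩) (lall (memL L) [7, 6, 14, 13]) = true := by decide +kernel

theorem rot13_11 : T.rot 13 [14, 6, 6, 7] (sel (ones 819) ip13 11) = true := by decide +kernel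

theorem rot13_11r : band (Rule.ok (2 * 0) EX RL ⟨13 :: [14, 6, 6, 7], [13], 26, false⟩) (lall (memL L) [14, 6, 6, 7]) = true := by decide +kernel

theorem rot13_12 : T.rot 13 [13, 13, 13, 13, 13, 13] (sel (ones 819) ip13 12) = true := by decide +kernel

theorem rot13_12r : band (Rule.ok (2 * 0) EX RL ⟨13 :: [13, 13, 13, 13, 13, 13], [], 14, false⟩) (lall (memL L) [13, 13, 13, 13, 13, 13]) = true := by decide +kernel

theorem rot13_13 : T.rot 13 [13, 5, 13, 12, 6, 6, 6, 12] (sel (ones 819) ip13 13) = true := by decide +kernel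

theorem rot13_13r : band (Rule.ok (2 * 0) EX RL ⟨13 :: [13, 5, 13, 12, 6, 6, 6, 12], [11, 11, 11, 8], 19, true⟩) (lall (memL L) [13, 5, 13, 12, 6, 6, 6, 12]) = true := by decide +kernel

theorem rot13_14 : T.rot 13 [5, 13, 12, 6, 6, 6, 12, 13] (sel (ones 819) ip13 14) = true := by decide +kernel

theorem rot13_14r : band (Rule.ok (2 * 0) EX RL ⟨13 :: [5, 13, 12, 6, 6, 6, 12, 13], [9, 11, 8, 11], 19, true⟩) (lall (memL L) [5, 13, 12, 6, 6, 6, 12, 13]) = true := by decide +kernel

theorem rot13_15 : T.rot 13 [12, 6, 6, 6, 12, 13, 13, 5] (sel (ones 819) ip13 15) = true := by decide +kernel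

theorem rot13_15r : band (Rule.ok (2 * 0) EX RL ⟨13 :: [12, 6, 6, 6, 12, 13, 13, 5], [9, 11], 19, true⟩) (lall (memL L) [12, 6, 6, 6, 12, 13, 13, 5]) = true := by decide +kernel

theorem rot13_16 : T.rot 13 [13, 13, 5, 6, 12, 6, 6, 5] (sel (ones 819) ip13 16) = true := by decide +kernel

theorem rot13_16r : band (Rule.ok (2 * 0) EX RL ⟨13 :: [13, 13, 5, 6, 12, 6, 6, 5], [11, 11, 11], 19, false⟩) (lall (memL L) [13, 13, 5, 6, 12, 6, 6, 5]) = true := by decide +kernel

theorem rot13_17 : T.rot 13 [13, 5, 6, 12, 6, 6, 5, 13] (sel (ones 819) ip13 17) = true := by decide +kernel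

theorem rot13_17r : band (Rule.ok (2 * 0) EX RL ⟨13 :: [13, 5, 6, 12, 6, 6, 5, 13], [11, 11], 19, false⟩) (lall (memL L) [13, 5, 6, 12, 6, 6, 5, 13]) = true := by decide +kernel

theorem rot13_18 : T.rot 13 [5, 6, 12, 6, 6, 5, 13, 13] (sel (ones 819) ip13 18) = true := by decide +kernel

theorem rot13_18r : band (Rule.ok (2 * 0) EX RL ⟨13 :: [5, 6, 12, 6, 6, 5, 13, 13], [11], 19, false⟩) (lall (memL L) [5, 6, 12, 6, 6, 5, 13, 13]) = true := by decide +kernel

theorem cov13 : T.cover 13 [(sel (ones 819) ip13 1), (sel (ones 819) ip13 2), (sel (ones 819) ip13 3), (sel (ones 819) ip13 4), (sel (ones 819) ip13 5), (sel (ones 819) ip13 6), (sel (ones 819) ip13 7), (sel (ones 819) ip13 8), (sel (ones 819) ip13 9), (sel (ones 819) ip13 10), (sel (ones 819) ip13 11), (sel (ones 819) ip13 12), (sel (ones 819) ip13 13), (sel (ones 819) ip13 14), (sel (ones 819) ip13 15), (sel (ones 819) ip13 16), (sel (ones 819) ip13 17), (sel (ones 819) ip13 18)] = true := by decide +kernel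

theorem tl13 : T.treeLt 10 13 = true := by decide +kernel

theorem rot14_1 : T.rot 14 [7] (sel (ones 819) ip14 1) = true := by decide +kernel

theorem rot14_1r : band (Rule.ok (2 * 0) EX RL ⟨14 :: [7], [], 27, false⟩) (lall (memL L) [7]) = true := by decide +kernel

theorem rot14_2 : T.rot 14 [14, 14] (sel (ones 819) ip14 2) = true := by decide +kernel

theorem rot14_2r : band (Rule.ok (2 * 0) EX RL ⟨14 :: [14, 14], [], 20, false⟩) (lall (memL L) [14, 14]) = true := by decide +kernel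

theorem rot14_3 : T.rot 14 [1, 7, 8] (sel (ones 819) ip14 3) = true := by decide +kernel

theorem rot14_3r : band (Rule.ok (2 * 0) EX RL ⟨14 :: [1, 7, 8], [13], 21, true⟩) (lall (memL L) [1, 7, 8]) = true := by decide +kernel

theorem rot14_4 : T.rot 14 [8, 7, 1] (sel (ones 819) ip14 4) = true := by decide +kernel

theorem rot14_4r : band (Rule.ok (2 * 0) EX RL ⟨14 :: [8, 7, 1], [1, 13], 21, false⟩) (lall (memL L) [8, 7, 1]) = true := by decide +kernel

theorem rot14_5 : T.rot 14 [2, 7, 9] (sel (ones 819) ip14 5) = true := by decide +kernel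

theorem rot14_5r : band (Rule.ok (2 * 0) EX RL ⟨14 :: [2, 7, 9], [13], 22, true⟩) (lall (memL L) [2, 7, 9]) = true := by decide +kernel

theorem rot14_6 : T.rot 14 [9, 7, 2] (sel (ones 819) ip14 6) = true := by decide +kernel

theorem rot14_6r : band (Rule.ok (2 * 0) EX RL ⟨14 :: [9, 7, 2], [3, 13], 22, false⟩) (lall (memL L) [9, 7, 2]) = true := by decide +kernel

theorem rot14_7 : T.rot 14 [3, 7, 10] (sel (ones 819) ip14 7) = true := by decide +kernel

theorem rot14_7r : band (Rule.ok (2 * 0) EX RL ⟨14 :: [3, 7, 10], [13], 23, true⟩) (lall (memL L) [3, 7, 10]) = true := by decide +kernel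

theorem rot14_8 : T.rot 14 [10, 7, 3] (sel (ones 819) ip14 8) = true := by decide +kernel

theorem rot14_8r : band (Rule.ok (2 * 0) EX RL ⟨14 :: [10, 7, 3], [5, 13], 23, false⟩) (lall (memL L) [10, 7, 3]) = true := by decide +kernel

theorem rot14_9 : T.rot 14 [4, 7, 11] (sel (ones 819) ip14 9) = true := by decide +kernel

theorem rot14_9r : band (Rule.ok (2 * 0) EX RL ⟨14 :: [4, 7, 11], [13], 24, true⟩) (lall (memL L) [4, 7, 11]) = true := by decide +kernel

theorem rot14_10 : T.rot 14 [11, 7, 4] (sel (ones 819) ip14 10) = true := by decide +kernel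

theorem rot14_10r : band (Rule.ok (2 * 0) EX RL ⟨14 :: [11, 7, 4], [7, 13], 24, false⟩) (lall (memL L) [11, 7, 4]) = true := by decide +kernel

theorem rot14_11 : T.rot 14 [5, 7, 12] (sel (ones 819) ip14 11) = true := by decide +kernel

theorem rot14_11r : band (Rule.ok (2 * 0) EX RL ⟨14 :: [5, 7, 12], [13], 25, true⟩) (lall (memL L) [5, 7, 12]) = true := by decide +kernel

theorem rot14_12 : T.rot 14 [12, 7, 5] (sel (ones 819) ip14 12) = true := by decide +kernel

theorem rot14_12r : band (Rule.ok (2 * 0) EX RL ⟨14 :: [12, 7, 5], [9, 13], 25, false⟩) (lall (memL L) [12, 7, 5]) = true := by decide +kernel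

theorem rot14_13 : T.rot 14 [13, 13, 7, 6] (sel (ones 819) ip14 13) = true := by decide +kernel

theorem rot14_13r : band (Rule.ok (2 * 0) EX RL ⟨14 :: [13, 13, 7, 6], [13], 26, true⟩) (lall (memL L) [13, 13, 7, 6]) = true := by decide +kernel

theorem rot14_14 : T.rot 14 [6, 6, 7, 13] (sel (ones 819) ip14 14) = true := by decide +kernel

theorem rot14_14r : band (Rule.ok (2 * 0) EX RL ⟨14 :: [6, 6, 7, 13], [13, 10], 26, false⟩) (lall (memL L) [6, 6, 7, 13]) = true := by decide +kernel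

theorem cov14 : T.cover 14 [(sel (ones 819) ip14 1), (sel (ones 819) ip14 2), (sel (ones 819) ip14 3), (sel (ones 819) ip14 4), (sel (ones 819) ip14 5), (sel (ones 819) ip14 6), (sel (ones 819) ip14 7), (sel (ones 819) ip14 8), (sel (ones 819) ip14 9), (sel (ones 819) ip14 10), (sel (ones 819) ip14 11), (sel (ones 819) ip14 12), (sel (ones 819) ip14 13), (sel (ones 819) ip14 14)] = true := by decide +kernel

theorem tl14 : T.treeLt 10 14 = true := by decide +kernel

end Cfsg.Agent.Spor.ThD
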