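import Cfsg.Agent.Spor.Sub3
import Cfsg.Agent.Spor.ThD.S.Main
import Cfsg.Agent.Spor.ThD.L.Main
import Cfsg.Agent.Spor.DC
import Cfsg.Agent.Spor.Th3.Main
import Cfsg.Agent.Spor.ThL.Grp

set_option autoImplicit false
set_option maxRecDepth 100000

namespace Cfsg.Agent.Spor.ThD

theorem bound : Bound 7 0 RL 634023936 := show Bound 7 0 RL (3 * 211341312) from (Th3.cert.bound' ThL.bound (H := [([], 0, true), ([], 1, true), ([], 2, true), ([], 3, true), ([], 4, true), ([], 5, true), ([], 6, true), ([], 7, true), ([], 8, true), ([], 9, true), ([], 10, true), ([], 11, true), ([], 12, true), ([], 13, true), ([], 14, true), ([], 15, true), ([], 16, true), ([], 17, true), ([], 18, true), ([], 19, true), ([], 20, true), ([], 21, true), ([], 22, true), ([], 23, true), ([], 24, true), ([], 25, true), ([], 26, true)]) (H' := [([], 0, true), ([], 1, true), ([], 2, true), ([], 3, true), ([], 4, true), ([], 5, true), ([], 6, true), ([], 7, true), ([], 8, true), ([], 9, true), ([], 10, true), ([], 11, true), ([], 12, true), ([], 13, true), ([], 14, true), ([], 15, true), ([],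 16, true), ([], 17, true), ([], 18, true), ([], 19, true)]) (by decide +kernel) (by decide +kernel))

/-- the permutation group -/
noncomputable abbrev P : Subgroup (Equiv.Perm ℕ) := gsub 7 fP
noncomputable abbrev p : ℕ → P := lift P fP

theorem lbP : 634023936 ∣ Nat.card P := by
  rw [P, L.eG]; exact L.lb

theorem cardP : Nat.card P = 634023936 := Nat.dvd_antisymm (bound _ _ cert.pres) lbP

instance instFiniteP : Finite P := Nat.finite_of_card_ne_zero (by rw [cardP]; norm_num)

theorem coatomP : IsCoatom (wsub 7 p BW) :=
  cert.self.coatom (by norm_num) ((map_wsub_lift fP BW).trans S.eH)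
    ((Subgroup.range_subtype _).trans S.eG) S.hX S.hXc S.hY

theorem coreP : (wsub 7 p BW).normalCore = ⊥ :=
  cert.self.core_eq_bot P.subtype_injective ((Subgroup.range_subtype P).symm ▸ S.hfix)

theorem presP : Pres 7 0 RL p := cert.pres.lift

end Cfsg.Agent.Spor.ThD
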